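import Mathlib
import Cfsg.Prelude.Def_E6

/-!
Tables for the 27-dimensional representation of type E₆: root vectors, monomials of the cubic form,
the reduction steps and the torus data.
-/

set_option autoImplicit false

namespace CfsgLib.ChevE6Cubic

open Cfsg.Lie

/-- A reduction step bringing the image of a coordinate vector back to its line. -/
structure Step where
  /-- the coordinate -/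
  c : I27
  /-- forced zeros `(d, j, f)` -/
  zero : List (I27 × I27 × I27)
  /-- how a non-zero coordinate is found -/
  kind : ℕ
  /-- the witness line -/
  wit : I27
  /-- paths `(d, [(root, next coordinate)])` ending in `c` -/
  moves : List (I27 × List (ℕ × I27))
  /-- coordinates cleared by roots -/
  clr : List (I27 × ℕ)
  /-- coordinates killed by the quadratic equations `(f, d)` -/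
  forced : List (I27 × I27)

set_option maxHeartbeats 2000000 in
/-- Monomials of the cubic form. -/
def monos : List (ℤ × I27 × I27 × I27) :=
  [(1, (0, 0, 0), (0, 1, 1), (0, 2, 2)),
   (-1, (0, 0, 0), (0, 1, 2), (0, 2, 1)),
   (-1, (0, 0, 1), (0, 1, 0), (0, 2, 2)),
   (1, (0, 0, 1), (0, 1, 2), (0, 2, 0)),
   (1, (0, 0, 2), (0, 1, 0), (0, 2, 1)),
   (-1, (0, 0, 2), (0, 1, 1), (0, 2, 0)),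
   (1, (1, 0, 0), (1, 1, 1), (1, 2, 2)),
   (-1, (1, 0, 0), (1, 1, 2), (1, 2, 1)),
   (-1, (1, 0, 1), (1, 1, 0), (1, 2, 2)),
   (1, (1, 0, 1), (1, 1, 2), (1, 2, 0)),
   (1, (1, 0, 2), (1, 1, 0), (1, 2, 1)),
   (-1, (1, 0, 2), (1, 1, 1), (1, 2, 0)),
   (1, (2, 0, 0), (2, 1, 1), (2, 2, 2)),
   (-1, (2, 0, 0), (2, 1, 2), (2, 2, 1)),
   (-1, (2, 0, 1), (2, 1, 0), (2, 2, 2)),
   (1, (2, 0, 1), (2, 1, 2), (2, 2, 0)),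
   (1, (2, 0, 2), (2, 1, 0), (2, 2, 1)),
   (-1, (2, 0, 2), (2, 1, 1), (2, 2, 0)),
   (-1, (0, 0, 0), (1, 0, 0), (2, 0, 0)),
   (-1, (0, 0, 0), (1, 0, 1), (2, 1, 0)),
   (-1, (0, 0, 0), (1, 0, 2), (2, 2, 0)),
   (-1, (0, 0, 1), (1, 1, 0), (2, 0, 0)),
   (-1, (0, 0, 1), (1, 1, 1), (2, 1, 0)),
   (-1, (0, 0, 1), (1, 1, 2), (2, 2, 0)),
   (-1, (0, 0, 2), (1, 2, 0), (2, 0, 0)),
   (-1, (0, 0, 2), (1, 2, 1), (2, 1, 0)),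
   (-1, (0, 0, 2), (1, 2, 2), (2, 2, 0)),
   (-1, (0, 1, 0), (1, 0, 0), (2, 0, 1)),
   (-1, (0, 1, 0), (1, 0, 1), (2, 1, 1)),
   (-1, (0, 1, 0), (1, 0, 2), (2, 2, 1)),
   (-1, (0, 1, 1), (1, 1, 0), (2, 0, 1)),
   (-1, (0, 1, 1), (1, 1, 1), (2, 1, 1)),
   (-1, (0, 1, 1), (1, 1, 2), (2, 2, 1)),
   (-1, (0, 1, 2), (1, 2, 0), (2, 0, 1)),
   (-1, (0, 1, 2), (1, 2, 1), (2, 1, 1)),
   (-1, (0, 1, 2), (1, 2, 2), (2, 2, 1)),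
   (-1, (0, 2, 0), (1, 0, 0), (2, 0, 2)),
   (-1, (0, 2, 0), (1, 0, 1), (2, 1, 2)),
   (-1, (0, 2, 0), (1, 0, 2), (2, 2, 2)),
   (-1, (0, 2, 1), (1, 1, 0), (2, 0, 2)),
   (-1, (0, 2, 1), (1, 1, 1), (2, 1, 2)),
   (-1, (0, 2, 1), (1, 1, 2), (2, 2, 2)),
   (-1, (0, 2, 2), (1, 2, 0), (2, 0, 2)),
   (-1, (0, 2, 2), (1, 2, 1), (2, 1, 2)),
   (-1, (0, 2, 2), (1, 2, 2), (2, 2, 2))]

set_option maxHeartbeats 2000000 in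
/-- Root vectors `(row, column, coefficient)`. -/
def rootsX : List (List (I27 × I27 × ℤ)) :=
  [[((1, 0, 2), (1, 0, 0), -1), ((1, 1, 2), (1, 1, 0), -1), ((1, 2, 2), (1, 2, 0), -1), ((2, 0, 0), (2, 2, 0), 1), ((2, 0, 1), (2, 2, 1), 1), ((2, 0, 2), (2, 2, 2), 1)],
   [((1, 0, 2), (1, 0, 1), -1), ((1, 1, 2), (1, 1, 1), -1), ((1, 2, 2), (1, 2, 1), -1), ((2, 1, 0), (2, 2, 0), 1), ((2, 1, 1), (2, 2, 1), 1), ((2, 1, 2), (2, 2, 2), 1)],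
   [((0, 0, 2), (2, 2, 1), -1), ((0, 1, 2), (2, 2, 0), 1), ((1, 0, 2), (0, 2, 1), -1), ((1, 1, 2), (0, 2, 0), 1), ((2, 0, 2), (1, 2, 1), -1), ((2, 1, 2), (1, 2, 0), 1)],
   [((0, 0, 2), (2, 2, 2), 1), ((0, 2, 2), (2, 2, 0), -1), ((1, 0, 2), (0, 1, 1), -1), ((1, 1, 2), (0, 1, 0), 1), ((2, 0, 1), (1, 2, 1), -1), ((2, 1, 1), (1, 2, 0), 1)],
   [((0, 1, 2), (2, 2, 2), -1), ((0, 2, 2), (2, 2, 1), 1), ((1, 0, 2), (0, 0, 1), -1), ((1, 1, 2), (0, 0, 0), 1), ((2, 0, 0), (1, 2, 1), -1), ((2, 1, 0), (1, 2, 0), 1)],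
   [((0, 0, 1), (2, 2, 1), 1), ((0, 1, 1), (2, 2, 0), -1), ((1, 0, 2), (0, 2, 2), -1), ((1, 2, 2), (0, 2, 0), 1), ((2, 0, 2), (1, 1, 1), 1), ((2, 1, 2), (1, 1, 0), -1)],
   [((0, 0, 1), (2, 2, 2), -1), ((0, 2, 1), (2, 2, 0), 1), ((1, 0, 2), (0, 1, 2), -1), ((1, 2, 2), (0, 1, 0), 1), ((2, 0, 1), (1, 1, 1), 1), ((2, 1, 1), (1, 1, 0), -1)],
   [((0, 1, 1), (2, 2, 2), 1), ((0, 2, 1), (2, 2, 1), -1), ((1, 0, 2), (0, 0, 2), -1), ((1, 2, 2), (0, 0, 0), 1), ((2, 0, 0), (1, 1, 1), 1), ((2, 1, 0), (1, 1, 0), -1)],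
   [((0, 0, 1), (1, 2, 0), -1), ((0, 0, 2), (1, 1, 0), 1), ((1, 0, 1), (2, 2, 0), -1), ((1, 0, 2), (2, 1, 0), 1), ((2, 0, 1), (0, 2, 0), -1), ((2, 0, 2), (0, 1, 0), 1)],
   [((0, 1, 1), (1, 2, 0), 1), ((0, 1, 2), (1, 1, 0), -1), ((1, 0, 1), (2, 2, 1), 1), ((1, 0, 2), (2, 1, 1), -1), ((2, 0, 0), (0, 2, 0), -1), ((2, 0, 2), (0, 0, 0), 1)],
   [((0, 2, 1), (1, 2, 0), -1), ((0, 2, 2), (1, 1, 0), 1), ((1, 0, 1), (2, 2, 2), -1), ((1, 0, 2), (2, 1, 2), 1), ((2, 0, 0), (0, 1, 0), -1), ((2, 0, 1), (0, 0, 0), 1)],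
   [((0, 0, 1), (1, 2, 1), -1), ((0, 0, 2), (1, 1, 1), 1), ((1, 0, 0), (2, 2, 0), 1), ((1, 0, 2), (2, 0, 0), -1), ((2, 1, 1), (0, 2, 0), -1), ((2, 1, 2), (0, 1, 0), 1)],
   [((0, 1, 1), (1, 2, 1), 1), ((0, 1, 2), (1, 1, 1), -1), ((1, 0, 0), (2, 2, 1), -1), ((1, 0, 2), (2, 0, 1), 1), ((2, 1, 0), (0, 2, 0), -1), ((2, 1, 2), (0, 0, 0), 1)],
   [((0, 2, 1), (1, 2, 1), -1), ((0, 2, 2), (1, 1, 1), 1), ((1, 0, 0), (2, 2, 2), 1), ((1, 0, 2), (2, 0, 2), -1), ((2, 1, 0), (0, 1, 0), -1), ((2, 1, 1), (0, 0, 0), 1)],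
   [((0, 0, 2), (0, 0, 0), -1), ((0, 1, 2), (0, 1, 0), -1), ((0, 2, 2), (0, 2, 0), -1), ((1, 0, 0), (1, 2, 0), 1), ((1, 0, 1), (1, 2, 1), 1), ((1, 0, 2), (1, 2, 2), 1)],
   [((0, 0, 1), (0, 0, 0), 1), ((0, 1, 1), (0, 1, 0), 1), ((0, 2, 1), (0, 2, 0), 1), ((1, 0, 0), (1, 1, 0), -1), ((1, 0, 1), (1, 1, 1), -1), ((1, 0, 2), (1, 1, 2), -1)],
   [((0, 0, 0), (2, 2, 1), 1), ((0, 1, 0), (2, 2, 0), -1), ((1, 1, 2), (0, 2, 2), 1), ((1, 2, 2), (0, 2, 1), -1), ((2, 0, 2), (1, 0, 1), 1), ((2, 1, 2), (1, 0, 0), -1)],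
   [((0, 0, 0), (2, 2, 2), -1), ((0, 2, 0), (2, 2, 0), 1), ((1, 1, 2), (0, 1, 2), 1), ((1, 2, 2), (0, 1, 1), -1), ((2, 0, 1), (1, 0, 1), 1), ((2, 1, 1), (1, 0, 0), -1)],
   [((0, 1, 0), (2, 2, 2), 1), ((0, 2, 0), (2, 2, 1), -1), ((1, 1, 2), (0, 0, 2), 1), ((1, 2, 2), (0, 0, 1), -1), ((2, 0, 0), (1, 0, 1), 1), ((2, 1, 0), (1, 0, 0), -1)],
   [((0, 0, 0), (1, 2, 0), -1), ((0, 0, 2), (1, 0, 0), 1), ((1, 1, 1), (2, 2, 0), 1), ((1, 1, 2), (2, 1, 0), -1), ((2, 0, 1), (0, 2, 1), 1), ((2, 0, 2), (0, 1, 1), -1)],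
   [((0, 1, 0), (1, 2, 0), 1), ((0, 1, 2), (1, 0, 0), -1), ((1, 1, 1), (2, 2, 1), -1), ((1, 1, 2), (2, 1, 1), 1), ((2, 0, 0), (0, 2, 1), 1), ((2, 0, 2), (0, 0, 1), -1)],
   [((0, 2, 0), (1, 2, 0), -1), ((0, 2, 2), (1, 0, 0), 1), ((1, 1, 1), (2, 2, 2), 1), ((1, 1, 2), (2, 1, 2), -1), ((2, 0, 0), (0, 1, 1), 1), ((2, 0, 1), (0, 0, 1), -1)],
   [((0, 0, 0), (1, 1, 0), 1), ((0, 0, 1), (1, 0, 0), -1), ((1, 2, 1), (2, 2, 0), 1), ((1, 2, 2), (2, 1, 0), -1), ((2, 0, 1), (0, 2, 2), 1), ((2, 0, 2), (0, 1, 2), -1)],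
   [((0, 1, 0), (1, 1, 0), -1), ((0, 1, 1), (1, 0, 0), 1), ((1, 2, 1), (2, 2, 1), -1), ((1, 2, 2), (2, 1, 1), 1), ((2, 0, 0), (0, 2, 2), 1), ((2, 0, 2), (0, 0, 2), -1)],
   [((0, 2, 0), (1, 1, 0), 1), ((0, 2, 1), (1, 0, 0), -1), ((1, 2, 1), (2, 2, 2), 1), ((1, 2, 2), (2, 1, 2), -1), ((2, 0, 0), (0, 1, 2), 1), ((2, 0, 1), (0, 0, 2), -1)],
   [((1, 0, 1), (1, 0, 0), 1), ((1, 1, 1), (1, 1, 0), 1), ((1, 2, 1), (1, 2, 0), 1), ((2, 0, 0), (2, 1, 0), -1), ((2, 0, 1), (2, 1, 1), -1), ((2, 0, 2), (2, 1, 2), -1)],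
   [((0, 0, 0), (1, 2, 1), -1), ((0, 0, 2), (1, 0, 1), 1), ((1, 1, 0), (2, 2, 0), -1), ((1, 1, 2), (2, 0, 0), 1), ((2, 1, 1), (0, 2, 1), 1), ((2, 1, 2), (0, 1, 1), -1)],
   [((0, 1, 0), (1, 2, 1), 1), ((0, 1, 2), (1, 0, 1), -1), ((1, 1, 0), (2, 2, 1), 1), ((1, 1, 2), (2, 0, 1), -1), ((2, 1, 0), (0, 2, 1), 1), ((2, 1, 2), (0, 0, 1), -1)],
   [((0, 2, 0), (1, 2, 1), -1), ((0, 2, 2), (1, 0, 1), 1), ((1, 1, 0), (2, 2, 2), -1), ((1, 1, 2), (2, 0, 2), 1), ((2, 1, 0), (0, 1, 1), 1), ((2, 1, 1), (0, 0, 1), -1)],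
   [((0, 0, 2), (0, 0, 1), 1), ((0, 1, 2), (0, 1, 1), 1), ((0, 2, 2), (0, 2, 1), 1), ((1, 1, 0), (1, 2, 0), -1), ((1, 1, 1), (1, 2, 1), -1), ((1, 1, 2), (1, 2, 2), -1)],
   [((0, 0, 0), (1, 1, 1), -1), ((0, 0, 1), (1, 0, 1), 1), ((1, 2, 0), (2, 2, 0), 1), ((1, 2, 2), (2, 0, 0), -1), ((2, 1, 1), (0, 2, 2), -1), ((2, 1, 2), (0, 1, 2), 1)],
   [((0, 1, 0), (1, 1, 1), 1), ((0, 1, 1), (1, 0, 1), -1), ((1, 2, 0), (2, 2, 1), -1), ((1, 2, 2), (2, 0, 1), 1), ((2, 1, 0), (0, 2, 2), -1), ((2, 1, 2), (0, 0, 2), 1)],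
   [((0, 2, 0), (1, 1, 1), -1), ((0, 2, 1), (1, 0, 1), 1), ((1, 2, 0), (2, 2, 2), 1), ((1, 2, 2), (2, 0, 2), -1), ((2, 1, 0), (0, 1, 2), -1), ((2, 1, 1), (0, 0, 2), 1)],
   [((0, 0, 0), (0, 2, 0), -1), ((0, 0, 1), (0, 2, 1), -1), ((0, 0, 2), (0, 2, 2), -1), ((2, 0, 2), (2, 0, 0), 1), ((2, 1, 2), (2, 1, 0), 1), ((2, 2, 2), (2, 2, 0), 1)],
   [((0, 1, 0), (0, 2, 0), 1), ((0, 1, 1), (0, 2, 1), 1), ((0, 1, 2), (0, 2, 2), 1), ((2, 0, 2), (2, 0, 1), -1), ((2, 1, 2), (2, 1, 1), -1), ((2, 2, 2), (2, 2, 1), -1)],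
   [((0, 0, 0), (0, 1, 0), 1), ((0, 0, 1), (0, 1, 1), 1), ((0, 0, 2), (0, 1, 2), 1), ((2, 0, 1), (2, 0, 0), -1), ((2, 1, 1), (2, 1, 0), -1), ((2, 2, 1), (2, 2, 0), -1)],
   [((0, 1, 0), (0, 0, 0), 1), ((0, 1, 1), (0, 0, 1), 1), ((0, 1, 2), (0, 0, 2), 1), ((2, 0, 0), (2, 0, 1), -1), ((2, 1, 0), (2, 1, 1), -1), ((2, 2, 0), (2, 2, 1), -1)],
   [((0, 2, 0), (0, 1, 0), 1), ((0, 2, 1), (0, 1, 1), 1), ((0, 2, 2), (0, 1, 2), 1), ((2, 0, 1), (2, 0, 2), -1), ((2, 1, 1), (2, 1, 2), -1), ((2, 2, 1), (2, 2, 2), -1)],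
   [((0, 2, 0), (0, 0, 0), -1), ((0, 2, 1), (0, 0, 1), -1), ((0, 2, 2), (0, 0, 2), -1), ((2, 0, 0), (2, 0, 2), 1), ((2, 1, 0), (2, 1, 2), 1), ((2, 2, 0), (2, 2, 2), 1)],
   [((0, 0, 2), (2, 1, 1), 1), ((0, 1, 2), (2, 1, 0), -1), ((1, 0, 1), (0, 2, 1), 1), ((1, 1, 1), (0, 2, 0), -1), ((2, 0, 2), (1, 2, 2), -1), ((2, 2, 2), (1, 2, 0), 1)],
   [((0, 0, 2), (2, 1, 2), 1), ((0, 2, 2), (2, 1, 0), -1), ((1, 0, 1), (0, 1, 1), -1), ((1, 1, 1), (0, 1, 0), 1), ((2, 0, 1), (1, 2, 2), 1), ((2, 2, 1), (1, 2, 0), -1)],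
   [((0, 1, 2), (2, 1, 2), 1), ((0, 2, 2), (2, 1, 1), -1), ((1, 0, 1), (0, 0, 1), 1), ((1, 1, 1), (0, 0, 0), -1), ((2, 0, 0), (1, 2, 2), -1), ((2, 2, 0), (1, 2, 0), 1)],
   [((0, 0, 1), (0, 0, 2), 1), ((0, 1, 1), (0, 1, 2), 1), ((0, 2, 1), (0, 2, 2), 1), ((1, 2, 0), (1, 1, 0), -1), ((1, 2, 1), (1, 1, 1), -1), ((1, 2, 2), (1, 1, 2), -1)],
   [((0, 0, 1), (2, 1, 1), -1), ((0, 1, 1), (2, 1, 0), 1), ((1, 0, 1), (0, 2, 2), 1), ((1, 2, 1), (0, 2, 0), -1), ((2, 0, 2), (1, 1, 2), 1), ((2, 2, 2), (1, 1, 0), -1)],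
   [((0, 0, 1), (2, 1, 2), -1), ((0, 2, 1), (2, 1, 0), 1), ((1, 0, 1), (0, 1, 2), -1), ((1, 2, 1), (0, 1, 0), 1), ((2, 0, 1), (1, 1, 2), -1), ((2, 2, 1), (1, 1, 0), 1)],
   [((0, 1, 1), (2, 1, 2), -1), ((0, 2, 1), (2, 1, 1), 1), ((1, 0, 1), (0, 0, 2), 1), ((1, 2, 1), (0, 0, 0), -1), ((2, 0, 0), (1, 1, 2), 1), ((2, 2, 0), (1, 1, 0), -1)],
   [((1, 0, 0), (1, 0, 1), 1), ((1, 1, 0), (1, 1, 1), 1), ((1, 2, 0), (1, 2, 1), 1), ((2, 1, 0), (2, 0, 0), -1), ((2, 1, 1), (2, 0, 1), -1), ((2, 1, 2), (2, 0, 2), -1)],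
   [((0, 0, 2), (2, 0, 1), -1), ((0, 1, 2), (2, 0, 0), 1), ((1, 0, 0), (0, 2, 1), -1), ((1, 1, 0), (0, 2, 0), 1), ((2, 1, 2), (1, 2, 2), -1), ((2, 2, 2), (1, 2, 1), 1)],
   [((0, 0, 2), (2, 0, 2), -1), ((0, 2, 2), (2, 0, 0), 1), ((1, 0, 0), (0, 1, 1), 1), ((1, 1, 0), (0, 1, 0), -1), ((2, 1, 1), (1, 2, 2), 1), ((2, 2, 1), (1, 2, 1), -1)],
   [((0, 1, 2), (2, 0, 2), -1), ((0, 2, 2), (2, 0, 1), 1), ((1, 0, 0), (0, 0, 1), -1), ((1, 1, 0), (0, 0, 0), 1), ((2, 1, 0), (1, 2, 2), -1), ((2, 2, 0), (1, 2, 1), 1)],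
   [((0, 0, 1), (2, 0, 1), -1), ((0, 1, 1), (2, 0, 0), 1), ((1, 0, 0), (0, 2, 2), 1), ((1, 2, 0), (0, 2, 0), -1), ((2, 1, 2), (1, 1, 2), -1), ((2, 2, 2), (1, 1, 1), 1)],
   [((0, 0, 1), (2, 0, 2), -1), ((0, 2, 1), (2, 0, 0), 1), ((1, 0, 0), (0, 1, 2), -1), ((1, 2, 0), (0, 1, 0), 1), ((2, 1, 1), (1, 1, 2), 1), ((2, 2, 1), (1, 1, 1), -1)],
   [((0, 1, 1), (2, 0, 2), -1), ((0, 2, 1), (2, 0, 1), 1), ((1, 0, 0), (0, 0, 2), 1), ((1, 2, 0), (0, 0, 0), -1), ((2, 1, 0), (1, 1, 2), -1), ((2, 2, 0), (1, 1, 1), 1)],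
   [((0, 0, 1), (1, 2, 2), -1), ((0, 0, 2), (1, 1, 2), 1), ((1, 0, 0), (2, 1, 0), -1), ((1, 0, 1), (2, 0, 0), 1), ((2, 2, 1), (0, 2, 0), -1), ((2, 2, 2), (0, 1, 0), 1)],
   [((0, 1, 1), (1, 2, 2), -1), ((0, 1, 2), (1, 1, 2), 1), ((1, 0, 0), (2, 1, 1), -1), ((1, 0, 1), (2, 0, 1), 1), ((2, 2, 0), (0, 2, 0), 1), ((2, 2, 2), (0, 0, 0), -1)],
   [((0, 2, 1), (1, 2, 2), -1), ((0, 2, 2), (1, 1, 2), 1), ((1, 0, 0), (2, 1, 2), -1), ((1, 0, 1), (2, 0, 2), 1), ((2, 2, 0), (0, 1, 0), -1), ((2, 2, 1), (0, 0, 0), 1)],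
   [((0, 0, 0), (0, 0, 1), 1), ((0, 1, 0), (0, 1, 1), 1), ((0, 2, 0), (0, 2, 1), 1), ((1, 1, 0), (1, 0, 0), -1), ((1, 1, 1), (1, 0, 1), -1), ((1, 1, 2), (1, 0, 2), -1)],
   [((0, 0, 0), (0, 0, 2), -1), ((0, 1, 0), (0, 1, 2), -1), ((0, 2, 0), (0, 2, 2), -1), ((1, 2, 0), (1, 0, 0), 1), ((1, 2, 1), (1, 0, 1), 1), ((1, 2, 2), (1, 0, 2), 1)],
   [((0, 0, 0), (2, 1, 1), 1), ((0, 1, 0), (2, 1, 0), -1), ((1, 1, 1), (0, 2, 2), 1), ((1, 2, 1), (0, 2, 1), -1), ((2, 0, 2), (1, 0, 2), -1), ((2, 2, 2), (1, 0, 0), 1)],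
   [((0, 0, 0), (2, 1, 2), 1), ((0, 2, 0), (2, 1, 0), -1), ((1, 1, 1), (0, 1, 2), -1), ((1, 2, 1), (0, 1, 1), 1), ((2, 0, 1), (1, 0, 2), 1), ((2, 2, 1), (1, 0, 0), -1)],
   [((0, 1, 0), (2, 1, 2), 1), ((0, 2, 0), (2, 1, 1), -1), ((1, 1, 1), (0, 0, 2), 1), ((1, 2, 1), (0, 0, 1), -1), ((2, 0, 0), (1, 0, 2), -1), ((2, 2, 0), (1, 0, 0), 1)],
   [((0, 0, 0), (2, 0, 1), 1), ((0, 1, 0), (2, 0, 0), -1), ((1, 1, 0), (0, 2, 2), 1), ((1, 2, 0), (0, 2, 1), -1), ((2, 1, 2), (1, 0, 2), 1), ((2, 2, 2), (1, 0, 1), -1)],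
   [((0, 0, 0), (2, 0, 2), 1), ((0, 2, 0), (2, 0, 0), -1), ((1, 1, 0), (0, 1, 2), -1), ((1, 2, 0), (0, 1, 1), 1), ((2, 1, 1), (1, 0, 2), -1), ((2, 2, 1), (1, 0, 1), 1)],
   [((0, 1, 0), (2, 0, 2), 1), ((0, 2, 0), (2, 0, 1), -1), ((1, 1, 0), (0, 0, 2), 1), ((1, 2, 0), (0, 0, 1), -1), ((2, 1, 0), (1, 0, 2), 1), ((2, 2, 0), (1, 0, 1), -1)],
   [((0, 0, 0), (1, 2, 2), 1), ((0, 0, 2), (1, 0, 2), -1), ((1, 1, 0), (2, 1, 0), -1), ((1, 1, 1), (2, 0, 0), 1), ((2, 2, 1), (0, 2, 1), -1), ((2, 2, 2), (0, 1, 1), 1)],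
   [((0, 1, 0), (1, 2, 2), 1), ((0, 1, 2), (1, 0, 2), -1), ((1, 1, 0), (2, 1, 1), -1), ((1, 1, 1), (2, 0, 1), 1), ((2, 2, 0), (0, 2, 1), 1), ((2, 2, 2), (0, 0, 1), -1)],
   [((0, 2, 0), (1, 2, 2), 1), ((0, 2, 2), (1, 0, 2), -1), ((1, 1, 0), (2, 1, 2), -1), ((1, 1, 1), (2, 0, 2), 1), ((2, 2, 0), (0, 1, 1), -1), ((2, 2, 1), (0, 0, 1), 1)],
   [((0, 0, 0), (1, 1, 2), 1), ((0, 0, 1), (1, 0, 2), -1), ((1, 2, 0), (2, 1, 0), 1), ((1, 2, 1), (2, 0, 0), -1), ((2, 2, 1), (0, 2, 2), 1), ((2, 2, 2), (0, 1, 2), -1)],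
   [((0, 1, 0), (1, 1, 2), 1), ((0, 1, 1), (1, 0, 2), -1), ((1, 2, 0), (2, 1, 1), 1), ((1, 2, 1), (2, 0, 1), -1), ((2, 2, 0), (0, 2, 2), -1), ((2, 2, 2), (0, 0, 2), 1)],
   [((0, 2, 0), (1, 1, 2), 1), ((0, 2, 1), (1, 0, 2), -1), ((1, 2, 0), (2, 1, 2), 1), ((1, 2, 1), (2, 0, 2), -1), ((2, 2, 0), (0, 1, 2), 1), ((2, 2, 1), (0, 0, 2), -1)],
   [((1, 0, 1), (1, 0, 2), -1), ((1, 1, 1), (1, 1, 2), -1), ((1, 2, 1), (1, 2, 2), -1), ((2, 2, 0), (2, 1, 0), 1), ((2, 2, 1), (2, 1, 1), 1), ((2, 2, 2), (2, 1, 2), 1)],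
   [((1, 0, 0), (1, 0, 2), -1), ((1, 1, 0), (1, 1, 2), -1), ((1, 2, 0), (1, 2, 2), -1), ((2, 2, 0), (2, 0, 0), 1), ((2, 2, 1), (2, 0, 1), 1), ((2, 2, 2), (2, 0, 2), 1)]]

set_option maxHeartbeats 2000000 in
/-- The reduction steps. -/
def steps : List Step :=
  [{ c := (0, 0, 0), zero := [], kind := 0, wit := (0, 0, 0),
     moves := [((0, 0, 0), []), ((0, 0, 1), [(56, (0, 0, 0))]), ((0, 0, 2), [(57, (0, 0, 0))]), ((0, 1, 0), [(35, (0, 0, 0))]), ((0, 1, 1), [(35, (0, 0, 1)), (56, (0, 0, 0))]), ((0, 1, 2), [(35, (0, 0, 2)), (57, (0, 0, 0))]), ((0, 2, 0), [(33, (0, 0, 0))]), ((0, 2, 1), [(33, (0, 0, 1)), (56, (0, 0, 0))]), ((0, 2, 2), [(33, (0, 0, 2)), (57, (0, 0, 0))]), ((1, 0, 0), [(22, (0, 0, 1)), (56, (0, 0, 0))]), ((1, 0, 1), [(30, (0, 0, 1)), (56, (0, 0, 0))]),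 ((1, 0, 2), [(67, (0, 0, 1)), (56, (0, 0, 0))]), ((1, 1, 0), [(22, (0, 0, 0))]), ((1, 1, 1), [(30, (0, 0, 0))]), ((1, 1, 2), [(67, (0, 0, 0))]), ((1, 2, 0), [(19, (0, 0, 0))]), ((1, 2, 1), [(26, (0, 0, 0))]), ((1, 2, 2), [(64, (0, 0, 0))]), ((2, 0, 0), [(61, (0, 1, 0)), (35, (0, 0, 0))]), ((2, 0, 1), [(61, (0, 0, 0))]), ((2, 0, 2), [(62, (0, 0, 0))]), ((2, 1, 0), [(58, (0, 1, 0)), (35, (0, 0, 0))]), ((2, 1, 1), [(58, (0, 0, 0))]), ((2, 1, 2), [(59, (0, 0, 0))]), ((2, 2, 0), [(16, (0, 1, 0)), (35, (0, 0, 0))]), ((2, 2, 1), [(16, (0, 0, 0))]), ((2, 2, 2), [(17, (0, 0, 0))])],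
     clr := [((0, 0, 1), 15), ((0, 0, 2), 14), ((0, 1, 0), 36), ((0, 2, 0), 38), ((1, 1, 0), 49), ((1, 1, 1), 41), ((1, 1, 2), 4), ((1, 2, 0), 52), ((1, 2, 1), 45), ((1, 2, 2), 7), ((2, 0, 1), 10), ((2, 0, 2), 9), ((2, 1, 1), 13), ((2, 1, 2), 12), ((2, 2, 1), 55), ((2, 2, 2), 54)],
     forced := [((0, 1, 1), (0, 2, 2)), ((0, 2, 2), (0, 1, 1)), ((0, 1, 2), (0, 2, 1)), ((0, 2, 1), (0, 1, 2)), ((1, 0, 0), (2, 0, 0)), ((2, 0, 0), (1, 0, 0)), ((1, 0, 1), (2, 1, 0)), ((2, 1, 0), (1, 0, 1)), ((1, 0, 2), (2, 2, 0)), ((2, 2, 0), (1, 0, 2))] },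
   { c := (0, 0, 1), zero := [((0, 1, 1), (0, 0, 0), (0, 2, 2)), ((0, 1, 2), (0, 0, 0), (0, 2, 1)), ((0, 2, 1), (0, 0, 0), (0, 1, 2)), ((0, 2, 2), (0, 0, 0), (0, 1, 1)), ((1, 0, 0), (0, 0, 0), (2, 0, 0)), ((1, 0, 1), (0, 0, 0), (2, 1, 0)), ((1, 0, 2), (0, 0, 0), (2, 2, 0)), ((2, 0, 0), (0, 0, 0), (1, 0, 0)), ((2, 1, 0), (0, 0, 0), (1, 0, 1)), ((2, 2, 0), (0, 0, 0), (1, 0, 2))], kind := 0, wit := (0, 0, 0),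
     moves := [((0, 0, 1), []), ((0, 0, 2), [(42, (0, 0, 1))]), ((0, 1, 0), [(51, (1, 2, 0)), (8, (0, 0, 1))]), ((0, 2, 0), [(50, (1, 2, 0)), (8, (0, 0, 1))]), ((1, 1, 0), [(8, (0, 0, 2)), (42, (0, 0, 1))]), ((1, 1, 1), [(11, (0, 0, 2)), (42, (0, 0, 1))]), ((1, 1, 2), [(53, (0, 0, 2)), (42, (0, 0, 1))]), ((1, 2, 0), [(8, (0, 0, 1))]), ((1, 2, 1), [(11, (0, 0, 1))]), ((1, 2, 2), [(53, (0, 0, 1))]), ((2, 0, 1), [(50, (0, 0, 1))]), ((2, 0, 2), [(51, (0, 0, 1))]), ((2, 1, 1), [(43, (0, 0, 1))]), ((2, 1, 2), [(44, (0, 0, 1))]), ((2, 2, 1), [(5, (0, 0, 1))]), ((2, 2, 2), [(6, (0, 0, 1))])],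
     clr := [((0, 0, 0), 56), ((0, 0, 2), 29), ((1, 2, 0), 63), ((1, 2, 1), 60), ((1, 2, 2), 18), ((2, 0, 1), 21), ((2, 0, 2), 20), ((2, 1, 1), 28), ((2, 1, 2), 27), ((2, 2, 1), 66), ((2, 2, 2), 65)],
     forced := [((0, 2, 2), (0, 1, 0)), ((0, 1, 2), (0, 2, 0)), ((2, 0, 0), (1, 1, 0)), ((2, 1, 0), (1, 1, 1)), ((2, 2, 0), (1, 1, 2))] },
   { c := (0, 0, 2), zero := [((0, 1, 0), (0, 0, 1), (0, 2, 2)), ((0, 1, 1), (0, 0, 0), (0, 2, 2)), ((0, 1, 2), (0, 0, 0), (0, 2, 1)), ((0, 2, 0), (0, 0, 1), (0, 1, 2)), ((0, 2, 1), (0, 0, 0), (0, 1, 2)), ((0, 2, 2), (0, 0, 0), (0, 1, 1)), ((1, 0, 0), (0, 0, 0), (2, 0, 0)), ((1, 0, 1), (0, 0, 0), (2, 1, 0)), ((1, 0, 2), (0, 0, 0), (2, 2, 0)), ((1, 1, 0), (0, 0, 1), (2, 0, 0)), ((1, 1, 1), (0, 0, 1), (2, 1, 0)), ((1, 1, 2), (0,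 0, 1), (2, 2, 0)), ((2, 0, 0), (0, 0, 0), (1, 0, 0)), ((2, 1, 0), (0, 0, 0), (1, 0, 1)), ((2, 2, 0), (0, 0, 0), (1, 0, 2))], kind := 0, wit := (0, 0, 0),
     moves := [((0, 0, 2), []), ((1, 2, 0), [(3, (2, 1, 1)), (39, (0, 0, 2))]), ((1, 2, 1), [(3, (2, 0, 1)), (47, (0, 0, 2))]), ((1, 2, 2), [(40, (2, 0, 1)), (47, (0, 0, 2))]), ((2, 0, 1), [(47, (0, 0, 2))]), ((2, 0, 2), [(48, (0, 0, 2))]), ((2, 1, 1), [(39, (0, 0, 2))]), ((2, 1, 2), [(40, (0, 0, 2))]), ((2, 2, 1), [(2, (0, 0, 2))]), ((2, 2, 2), [(3, (0, 0, 2))])],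
     clr := [((0, 0, 0), 57), ((0, 0, 1), 42), ((2, 0, 1), 24), ((2, 0, 2), 23), ((2, 1, 1), 32), ((2, 1, 2), 31), ((2, 2, 1), 69), ((2, 2, 2), 68)],
     forced := [((2, 0, 0), (1, 2, 0)), ((2, 1, 0), (1, 2, 1)), ((2, 2, 0), (1, 2, 2))] },
   { c := (2, 0, 1), zero := [((0, 1, 0), (0, 0, 1), (0, 2, 2)), ((0, 1, 1), (0, 0, 0), (0, 2, 2)), ((0, 1, 2), (0, 0, 0), (0, 2, 1)), ((0, 2, 0), (0, 0, 1), (0, 1, 2)), ((0, 2, 1), (0, 0, 0), (0, 1, 2)), ((0, 2, 2), (0, 0, 0), (0, 1, 1)), ((1, 0, 0), (0, 0, 0), (2, 0, 0)), ((1, 0, 1), (0, 0, 0), (2, 1, 0)), ((1, 0, 2), (0, 0, 0), (2, 2, 0)), ((1, 1, 0), (0, 0, 1), (2, 0, 0)), ((1, 1, 1), (0, 0, 1), (2, 1, 0)), ((1, 1, 2), (0, 0, 1), (2, 2, 0)), ((1, 2, 0), (0, 0, 2), (2, 0, 0)), ((1, 2, 1), (0, 0, 2), (2, 1, 0)), ((1, 2, 2),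 (0, 0, 2), (2, 2, 0)), ((2, 0, 0), (0, 0, 0), (1, 0, 0)), ((2, 1, 0), (0, 0, 0), (1, 0, 1)), ((2, 2, 0), (0, 0, 0), (1, 0, 2))], kind := 0, wit := (0, 0, 0),
     moves := [((2, 0, 1), []), ((2, 0, 2), [(37, (2, 0, 1))]), ((2, 1, 1), [(25, (2, 0, 1))]), ((2, 1, 2), [(25, (2, 0, 2)), (37, (2, 0, 1))]), ((2, 2, 1), [(0, (2, 0, 1))]), ((2, 2, 2), [(0, (2, 0, 2)), (37, (2, 0, 1))])],
     clr := [((0, 0, 0), 61), ((0, 0, 1), 50), ((0, 0, 2), 47), ((2, 0, 2), 34), ((2, 1, 1), 46), ((2, 2, 1), 71)],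
     forced := [((2, 1, 0), (2, 2, 2)), ((2, 2, 0), (2, 1, 2))] },
   { c := (1, 0, 1), zero := [((0, 1, 0), (0, 0, 1), (0, 2, 2)), ((0, 1, 1), (0, 0, 2), (0, 2, 0)), ((0, 1, 2), (0, 0, 1), (0, 2, 0)), ((0, 2, 0), (0, 0, 1), (0, 1, 2)), ((0, 2, 1), (0, 0, 2), (0, 1, 0)), ((0, 2, 2), (0, 0, 1), (0, 1, 0)), ((1, 0, 0), (2, 0, 1), (0, 1, 0)), ((1, 1, 0), (0, 0, 1), (2, 0, 0)), ((1, 1, 1), (0, 0, 1), (2, 1, 0)), ((1, 1, 2), (0, 0, 1), (2, 2, 0)), ((1, 2, 0), (0, 0, 2), (2, 0, 0)), ((1, 2, 1), (0, 0, 2), (2, 1, 0)), ((1, 2, 2), (0, 0, 2), (2, 2, 0)), ((2, 0, 0), (0, 0, 1), (1, 1, 0)), ((2, 1, 0), (2, 0, 1), (2, 2, 2)), ((2, 1, 2), (2, 0, 1), (2, 2, 0)), ((2, 2, 0), (2, 0, 1), (2, 1, 2)), ((2, 2, 2), (2, 0, 1), (2, 1, 0))], kind := 1, wit := (0, 0, 0),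
     moves := [((1, 0, 1), []), ((1, 0, 2), [(70, (1, 0, 1))])],
     clr := [((0, 0, 1), 30), ((0, 0, 2), 26), ((1, 0, 2), 1), ((2, 0, 1), 17), ((2, 0, 2), 16), ((2, 2, 1), 62)],
     forced := [((2, 1, 0), (0, 0, 0)), ((0, 1, 0), (2, 1, 1))] },
   { c := (1, 1, 1), zero := [((0, 0, 0), (1, 0, 1), (2, 1, 0)), ((0, 1, 0), (0, 0, 2), (0, 2, 1)), ((0, 1, 1), (0, 0, 0), (0, 2, 2)), ((0, 1, 2), (0, 0, 0), (0, 2, 1)), ((0, 2, 0), (0, 0, 2), (0, 1, 1)), ((0, 2, 1), (0, 0, 0), (0, 1, 2)), ((0, 2, 2), (0, 0, 0), (0, 1, 1)), ((1, 0, 0), (0, 0, 0), (2, 0, 0)), ((1, 0, 1), (0, 0, 0), (2, 1, 0)), ((1, 0, 2), (0, 0, 0), (2, 2, 0)), ((1, 1, 0), (1, 0, 1), (1, 2, 2)), ((1, 1, 2), (1, 0, 1), (1, 2, 0)), ((1, 2, 0), (1, 0, 1), (1, 1, 2)), ((1, 2, 1), (0, 0, 2), (2, 1, 0)), ((1,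 2, 2), (1, 0, 1), (1, 1, 0)), ((2, 0, 0), (0, 0, 0), (1, 0, 0)), ((2, 1, 0), (2, 0, 1), (2, 2, 2)), ((2, 1, 1), (1, 0, 1), (0, 1, 0)), ((2, 1, 2), (2, 0, 1), (2, 2, 0)), ((2, 2, 0), (2, 0, 1), (2, 1, 2)), ((2, 2, 2), (2, 0, 1), (2, 1, 0))], kind := 1, wit := (0, 0, 1),
     moves := [((1, 1, 1), [])],
     clr := [((0, 0, 2), 11), ((2, 0, 1), 6), ((2, 0, 2), 5), ((2, 2, 1), 51)],
     forced := [((2, 1, 0), (0, 0, 1))] },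
   { c := (1, 2, 1), zero := [((0, 0, 0), (1, 0, 1), (2, 1, 0)), ((0, 0, 1), (1, 1, 1), (2, 1, 0)), ((0, 1, 0), (0, 0, 1), (0, 2, 2)), ((0, 1, 1), (0, 0, 0), (0, 2, 2)), ((0, 1, 2), (0, 0, 0), (0, 2, 1)), ((0, 2, 0), (0, 0, 1), (0, 1, 2)), ((0, 2, 1), (0, 0, 0), (0, 1, 2)), ((0, 2, 2), (0, 0, 0), (0, 1, 1)), ((1, 0, 0), (1, 1, 1), (1, 2, 2)), ((1, 0, 1), (0, 0, 0), (2, 1, 0)), ((1, 0, 2), (1, 1, 1), (1, 2, 0)), ((1, 1, 0), (1, 0, 1), (1, 2, 2)), ((1, 1, 1), (0, 0, 1), (2, 1, 0)), ((1, 1, 2), (1, 0, 1), (1, 2, 0)), ((1, 2, 0), (1, 0, 1), (1, 1, 2)), ((1, 2, 2), (1, 1, 1), (1, 0, 0)), ((2, 0, 0), (0, 0, 0), (1, 0, 0)), ((2, 1, 0), (2, 0, 1), (2, 2, 2)), ((2, 1, 1), (1, 0, 1), (0, 1, 0)), ((2, 1, 2), (2, 0, 1), (2, 2, 0)), ((2, 2, 0), (2, 0, 1), (2, 1, 2)), ((2,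 2, 2), (2, 0, 1), (2, 1, 0))], kind := 1, wit := (0, 0, 2),
     moves := [((1, 2, 1), [])],
     clr := [((2, 0, 1), 3), ((2, 0, 2), 2), ((2, 2, 1), 48)],
     forced := [((2, 1, 0), (0, 0, 2))] },
   { c := (2, 2, 2), zero := [((0, 0, 0), (1, 0, 1), (2, 1, 0)), ((0, 0, 1), (1, 1, 1), (2, 1, 0)), ((0, 0, 2), (1, 2, 1), (2, 1, 0)), ((0, 1, 0), (0, 0, 1), (0, 2, 2)), ((0, 1, 1), (0, 0, 0), (0, 2, 2)), ((0, 1, 2), (0, 0, 0), (0, 2, 1)), ((0, 2, 0), (0, 0, 1), (0, 1, 2)), ((0, 2, 1), (0, 0, 0), (0, 1, 2)), ((0, 2, 2), (0, 0, 0), (0, 1, 1)), ((1, 0, 0), (1, 1, 1), (1, 2, 2)), ((1, 0, 1), (0, 0, 0), (2, 1, 0)), ((1, 0, 2), (1, 2, 1), (1, 1, 0)), ((1, 1, 0), (1, 0, 1), (1, 2, 2)), ((1, 1, 1), (0, 0, 1), (2, 1, 0)), ((1, 1, 2), (1, 2, 1), (1, 0, 0)), ((1, 2, 0), (1,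 0, 1), (1, 1, 2)), ((1, 2, 1), (0, 0, 2), (2, 1, 0)), ((1, 2, 2), (1, 1, 1), (1, 0, 0)), ((2, 0, 0), (0, 0, 0), (1, 0, 0)), ((2, 1, 0), (1, 0, 1), (0, 0, 0)), ((2, 1, 1), (1, 0, 1), (0, 1, 0)), ((2, 1, 2), (1, 0, 1), (0, 2, 0)), ((2, 2, 0), (0, 0, 0), (1, 0, 2))], kind := 1, wit := (2, 0, 1),
     moves := [((2, 2, 2), [])],
     clr := [((2, 0, 2), 0), ((2, 2, 1), 37)],
     forced := [((2, 1, 0), (2, 0, 1))] },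
   { c := (2, 1, 0), zero := [], kind := 2, wit := (0, 0, 0),
     moves := [((2, 1, 0), [])],
     clr := [((0, 1, 0), 58), ((0, 1, 1), 43), ((0, 1, 2), 39), ((0, 2, 0), 59), ((0, 2, 1), 44), ((0, 2, 2), 40), ((1, 0, 0), 53), ((1, 0, 2), 8), ((1, 1, 0), 64), ((1, 1, 2), 19), ((1, 2, 0), 67), ((1, 2, 2), 22), ((2, 0, 0), 25), ((2, 1, 1), 35), ((2, 1, 2), 33), ((2, 2, 0), 70)],
     forced := [((2, 0, 1), (2, 2, 2)), ((2, 2, 2), (2, 0, 1)), ((2, 0, 2), (2, 2, 1)), ((2, 2, 1), (2, 0, 2)), ((1, 0, 1), (0, 0, 0)), ((0, 0, 0), (1, 0, 1)), ((1, 1, 1), (0, 0, 1)), ((0, 0, 1), (1, 1, 1)), ((1, 2, 1), (0, 0, 2)), ((0, 0, 2), (1, 2, 1))] },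
   { c := (0, 1, 0), zero := [((0, 0, 0), (1, 0, 1), (2, 1, 0)), ((0, 0, 1), (1, 1, 1), (2, 1, 0)), ((0, 0, 2), (1, 2, 1), (2, 1, 0)), ((0, 1, 1), (0, 0, 0), (0, 2, 2)), ((0, 1, 2), (0, 0, 0), (0, 2, 1)), ((0, 2, 0), (2, 2, 2), (1, 0, 2)), ((0, 2, 1), (0, 0, 0), (0, 1, 2)), ((0, 2, 2), (0, 0, 0), (0, 1, 1)), ((1, 0, 0), (1, 1, 1), (1, 2, 2)), ((1, 0, 1), (0, 0, 0), (2, 1, 0)), ((1, 0, 2), (1, 2, 1), (1, 1, 0)), ((1, 1, 0), (1, 2, 1), (1, 0, 2)), ((1, 1, 1), (0, 0, 1), (2, 1, 0)), ((1, 1, 2), (1, 2, 1), (1, 0, 0)), ((1, 2, 0), (1, 1, 1), (1, 0, 2)), ((1, 2, 1), (0, 0, 2), (2, 1, 0)), ((1, 2, 2), (1, 1, 1), (1, 0, 0)), ((2, 0, 0), (2, 2, 2), (2, 1, 1)), ((2, 0, 1), (2, 1, 0), (2, 2, 2)), ((2, 0, 2), (2, 1, 0), (2, 2, 1)), ((2, 1, 0), (2, 0, 1), (2, 2, 2)), ((2,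 1, 1), (2, 2, 2), (2, 0, 0)), ((2, 1, 2), (1, 1, 1), (0, 2, 1)), ((2, 2, 0), (0, 0, 0), (1, 0, 2)), ((2, 2, 1), (2, 1, 0), (2, 0, 2)), ((2, 2, 2), (2, 1, 0), (2, 0, 1))], kind := 0, wit := (0, 0, 0),
     moves := [((0, 1, 0), [])],
     clr := [],
     forced := [] },
   { c := (0, 1, 1), zero := [((0, 0, 0), (1, 0, 1), (2, 1, 0)), ((0, 0, 1), (0, 1, 0), (0, 2, 2)), ((0, 0, 2), (0, 1, 0), (0, 2, 1)), ((0, 1, 0), (0, 0, 1), (0, 2, 2)), ((0, 1, 2), (0, 0, 1), (0, 2, 0)), ((0, 2, 0), (0, 0, 1), (0, 1, 2)), ((0, 2, 1), (0, 1, 0), (0, 0, 2)), ((0, 2, 2), (0, 1, 0), (0, 0, 1)), ((1, 0, 0), (1, 2, 1), (1, 1, 2)), ((1, 0, 1), (0, 0, 0), (2, 1, 0)), ((1, 0, 2), (1, 2, 1), (1, 1, 0)), ((1, 1, 0), (1, 0, 1), (1, 2, 2)), ((1, 1, 1), (0, 0, 1), (2, 1, 0)), ((1, 1, 2), (1,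 2, 1), (1, 0, 0)), ((1, 2, 0), (1, 0, 1), (1, 1, 2)), ((1, 2, 1), (0, 0, 2), (2, 1, 0)), ((1, 2, 2), (1, 0, 1), (1, 1, 0)), ((2, 0, 0), (2, 2, 2), (2, 1, 1)), ((2, 0, 1), (2, 1, 0), (2, 2, 2)), ((2, 0, 2), (2, 1, 0), (2, 2, 1)), ((2, 1, 0), (2, 0, 1), (2, 2, 2)), ((2, 1, 1), (2, 2, 2), (2, 0, 0)), ((2, 1, 2), (1, 0, 1), (0, 2, 0)), ((2, 2, 0), (0, 0, 1), (1, 1, 2)), ((2, 2, 1), (2, 1, 0), (2, 0, 2)), ((2, 2, 2), (2, 1, 0), (2, 0, 1))], kind := 0, wit := (0, 0, 0),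
     moves := [((0, 1, 1), [])],
     clr := [],
     forced := [] },
   { c := (0, 1, 2), zero := [((0, 0, 0), (0, 1, 1), (0, 2, 2)), ((0, 0, 1), (0, 1, 0), (0, 2, 2)), ((0, 0, 2), (0, 1, 0), (0, 2, 1)), ((0, 1, 0), (0, 0, 2), (0, 2, 1)), ((0, 1, 1), (0, 0, 2), (0, 2, 0)), ((0, 2, 0), (0, 1, 1), (0, 0, 2)), ((0, 2, 1), (0, 1, 0), (0, 0, 2)), ((0, 2, 2), (0, 1, 1), (0, 0, 0)), ((1, 0, 0), (1, 1, 1), (1, 2, 2)), ((1, 0, 1), (0, 0, 0), (2, 1, 0)), ((1, 0, 2), (1, 1, 1), (1, 2, 0)), ((1, 1, 0), (1, 0, 1), (1, 2, 2)), ((1, 1, 1), (0, 0, 1), (2, 1, 0)), ((1, 1, 2), (1, 0, 1), (1, 2, 0)), ((1, 2, 0), (1, 0, 1), (1, 1, 2)), ((1, 2, 1), (0, 0, 2), (2, 1, 0)), ((1, 2, 2), (1, 1, 1), (1, 0, 0)), ((2, 0, 0), (2, 2, 2), (2, 1, 1)), ((2, 0, 1), (2, 1, 0), (2, 2, 2)), ((2,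 0, 2), (2, 1, 0), (2, 2, 1)), ((2, 1, 0), (2, 0, 1), (2, 2, 2)), ((2, 1, 1), (2, 2, 2), (2, 0, 0)), ((2, 1, 2), (1, 0, 1), (0, 2, 0)), ((2, 2, 0), (0, 0, 2), (1, 2, 2)), ((2, 2, 1), (2, 1, 0), (2, 0, 2)), ((2, 2, 2), (2, 1, 0), (2, 0, 1))], kind := 0, wit := (0, 0, 0),
     moves := [((0, 1, 2), [])],
     clr := [],
     forced := [] },
   { c := (0, 2, 0), zero := [((0, 0, 0), (1, 0, 1), (2, 1, 0)), ((0, 0, 1), (0, 1, 0), (0, 2, 2)), ((0, 0, 2), (0, 1, 0), (0, 2, 1)), ((0, 1, 0), (2, 0, 1), (1, 0, 0)), ((0, 1, 1), (0, 0, 0), (0, 2, 2)), ((0, 1, 2), (0, 0, 0), (0, 2, 1)), ((0, 2, 1), (0, 1, 2), (0, 0, 0)), ((0, 2, 2), (0, 1, 1), (0, 0, 0)), ((1, 0, 0), (1, 1, 1), (1, 2, 2)), ((1, 0, 1), (0, 0, 0), (2, 1, 0)), ((1, 0, 2), (1, 2, 1), (1, 1, 0)), ((1, 1, 0), (1,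 2, 1), (1, 0, 2)), ((1, 1, 1), (0, 0, 1), (2, 1, 0)), ((1, 1, 2), (1, 2, 1), (1, 0, 0)), ((1, 2, 0), (1, 1, 1), (1, 0, 2)), ((1, 2, 1), (0, 0, 2), (2, 1, 0)), ((1, 2, 2), (1, 1, 1), (1, 0, 0)), ((2, 0, 0), (0, 0, 0), (1, 0, 0)), ((2, 0, 1), (2, 1, 0), (2, 2, 2)), ((2, 0, 2), (2, 1, 0), (2, 2, 1)), ((2, 1, 0), (2, 0, 1), (2, 2, 2)), ((2, 1, 1), (1, 0, 1), (0, 1, 0)), ((2, 1, 2), (2, 0, 1), (2, 2, 0)), ((2, 2, 0), (2, 0, 1), (2, 1, 2)), ((2, 2, 1), (2, 1, 0), (2, 0, 2)), ((2, 2, 2), (2, 1, 0), (2, 0, 1))], kind := 0, wit := (0, 0, 0),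
     moves := [((0, 2, 0), [])],
     clr := [],
     forced := [] },
   { c := (0, 2, 1), zero := [((0, 0, 0), (0, 1, 1), (0, 2, 2)), ((0, 0, 1), (0, 1, 2), (0, 2, 0)), ((0, 0, 2), (0, 1, 1), (0, 2, 0)), ((0, 1, 0), (0, 0, 1), (0, 2, 2)), ((0, 1, 1), (0, 0, 2), (0, 2, 0)), ((0, 1, 2), (0, 0, 1), (0, 2, 0)), ((0, 2, 0), (0, 1, 2), (0, 0, 1)), ((0, 2, 2), (0, 1, 1), (0, 0, 0)), ((1, 0, 0), (1, 2, 1), (1, 1, 2)), ((1, 0, 1), (0, 0, 0), (2, 1, 0)), ((1, 0, 2), (1, 2, 1), (1, 1, 0)), ((1, 1, 0), (1, 0, 1), (1, 2, 2)), ((1, 1, 1), (0, 0, 1), (2, 1, 0)), ((1, 1, 2), (1, 2, 1), (1, 0, 0)), ((1, 2, 0), (1, 0, 1), (1, 1, 2)), ((1, 2, 1), (0, 0, 2), (2, 1, 0)), ((1, 2, 2), (1, 0, 1), (1, 1, 0)), ((2, 0, 0), (0, 0, 1), (1, 1, 0)), ((2, 0, 1), (2, 1, 0), (2, 2, 2)), ((2,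 0, 2), (2, 1, 0), (2, 2, 1)), ((2, 1, 0), (2, 0, 1), (2, 2, 2)), ((2, 1, 1), (1, 0, 1), (0, 1, 0)), ((2, 1, 2), (2, 0, 1), (2, 2, 0)), ((2, 2, 0), (2, 0, 1), (2, 1, 2)), ((2, 2, 1), (2, 1, 0), (2, 0, 2)), ((2, 2, 2), (2, 1, 0), (2, 0, 1))], kind := 0, wit := (0, 0, 0),
     moves := [((0, 2, 1), [])],
     clr := [],
     forced := [] },
   { c := (0, 2, 2), zero := [((0, 0, 0), (0, 1, 2), (0, 2, 1)), ((0, 0, 1), (0, 1, 2), (0, 2, 0)), ((0, 0, 2), (0, 1, 0), (0, 2, 1)), ((0, 1, 0), (0, 0, 2), (0, 2, 1)), ((0, 1, 1), (0, 0, 2), (0, 2, 0)), ((0, 1, 2), (0, 0, 0), (0, 2, 1)), ((0, 2, 0), (0, 1, 2), (0, 0, 1)), ((0, 2, 1), (0, 1, 2), (0, 0, 0)), ((1, 0, 0), (1, 1, 1), (1, 2, 2)), ((1, 0, 1), (0, 0, 0), (2, 1, 0)), ((1, 0, 2), (1, 1, 1), (1, 2, 0)), ((1, 1, 0), (1,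 0, 1), (1, 2, 2)), ((1, 1, 1), (0, 0, 1), (2, 1, 0)), ((1, 1, 2), (1, 0, 1), (1, 2, 0)), ((1, 2, 0), (1, 0, 1), (1, 1, 2)), ((1, 2, 1), (0, 0, 2), (2, 1, 0)), ((1, 2, 2), (1, 1, 1), (1, 0, 0)), ((2, 0, 0), (0, 0, 2), (1, 2, 0)), ((2, 0, 1), (2, 1, 0), (2, 2, 2)), ((2, 0, 2), (2, 1, 0), (2, 2, 1)), ((2, 1, 0), (2, 0, 1), (2, 2, 2)), ((2, 1, 1), (1, 0, 1), (0, 1, 0)), ((2, 1, 2), (2, 0, 1), (2, 2, 0)), ((2, 2, 0), (2, 0, 1), (2, 1, 2)), ((2, 2, 1), (2, 1, 0), (2, 0, 2)), ((2, 2, 2), (2, 1, 0), (2, 0, 1))], kind := 0, wit := (0, 0, 0),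
     moves := [((0, 2, 2), [])],
     clr := [],
     forced := [] },
   { c := (1, 0, 0), zero := [((0, 0, 0), (0, 1, 1), (0, 2, 2)), ((0, 0, 1), (0, 1, 0), (0, 2, 2)), ((0, 0, 2), (0, 1, 0), (0, 2, 1)), ((0, 1, 0), (0, 0, 1), (0, 2, 2)), ((0, 1, 1), (0, 0, 0), (0, 2, 2)), ((0, 1, 2), (0, 0, 0), (0, 2, 1)), ((0, 2, 0), (0, 1, 2), (0, 0, 1)), ((0, 2, 1), (0, 1, 2), (0, 0, 0)), ((0, 2, 2), (0, 1, 1), (0, 0, 0)), ((1, 0, 1), (0, 0, 0), (2, 1, 0)), ((1, 0, 2), (0, 2, 0), (2, 2, 2)), ((1, 1, 0), (1, 0, 1), (1, 2, 2)), ((1, 1, 1), (0, 0, 1), (2, 1, 0)), ((1, 1, 2), (1, 0, 1), (1, 2, 0)), ((1, 2, 0), (1, 0, 1), (1, 1, 2)), ((1, 2, 1), (0, 0, 2), (2, 1, 0)), ((1, 2, 2), (1, 0, 1), (1, 1, 0)), ((2, 0, 0), (2, 2, 2), (2, 1, 1)), ((2, 0, 1), (2, 1, 0), (2, 2, 2)), ((2,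 0, 2), (2, 1, 0), (2, 2, 1)), ((2, 1, 0), (2, 0, 1), (2, 2, 2)), ((2, 1, 1), (2, 2, 2), (2, 0, 0)), ((2, 1, 2), (1, 0, 1), (0, 2, 0)), ((2, 2, 0), (0, 0, 1), (1, 1, 2)), ((2, 2, 1), (2, 1, 0), (2, 0, 2)), ((2, 2, 2), (2, 1, 0), (2, 0, 1))], kind := 0, wit := (0, 0, 0),
     moves := [((1, 0, 0), [])],
     clr := [],
     forced := [] },
   { c := (1, 0, 2), zero := [((0, 0, 0), (0, 1, 1), (0, 2, 2)), ((0, 0, 1), (0, 1, 0), (0, 2, 2)), ((0, 0, 2), (0, 1, 0), (0, 2, 1)), ((0, 1, 0), (0, 0, 1), (0, 2, 2)), ((0, 1, 1), (0, 0, 0), (0, 2, 2)), ((0, 1, 2), (0, 0, 0), (0, 2, 1)), ((0, 2, 0), (0, 1, 2), (0, 0, 1)), ((0, 2, 1), (0, 1, 2), (0, 0, 0)), ((0, 2, 2), (0, 1, 1), (0, 0, 0)), ((1, 0, 0), (0, 1, 0), (2, 0, 1)), ((1, 0, 1), (0, 0, 0), (2, 1, 0)), ((1, 1, 0), (1,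 0, 1), (1, 2, 2)), ((1, 1, 1), (1, 0, 0), (1, 2, 2)), ((1, 1, 2), (1, 0, 0), (1, 2, 1)), ((1, 2, 0), (1, 0, 1), (1, 1, 2)), ((1, 2, 1), (1, 0, 0), (1, 1, 2)), ((1, 2, 2), (1, 1, 1), (1, 0, 0)), ((2, 0, 0), (1, 0, 0), (0, 0, 0)), ((2, 0, 1), (2, 1, 0), (2, 2, 2)), ((2, 0, 2), (2, 1, 0), (2, 2, 1)), ((2, 1, 0), (2, 0, 1), (2, 2, 2)), ((2, 1, 1), (1, 0, 1), (0, 1, 0)), ((2, 1, 2), (2, 0, 1), (2, 2, 0)), ((2, 2, 0), (2, 0, 1), (2, 1, 2)), ((2, 2, 1), (2, 1, 0), (2, 0, 2)), ((2, 2, 2), (2, 1, 0), (2, 0, 1))], kind := 0, wit := (0, 0, 0),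
     moves := [((1, 0, 2), [])],
     clr := [],
     forced := [] },
   { c := (1, 1, 0), zero := [((0, 0, 0), (0, 1, 1), (0, 2, 2)), ((0, 0, 1), (0, 1, 0), (0, 2, 2)), ((0, 0, 2), (0, 1, 0), (0, 2, 1)), ((0, 1, 0), (0, 0, 1), (0, 2, 2)), ((0, 1, 1), (0, 0, 0), (0, 2, 2)), ((0, 1, 2), (0, 0, 0), (0, 2, 1)), ((0, 2, 0), (0, 1, 2), (0, 0, 1)), ((0, 2, 1), (0, 1, 2), (0, 0, 0)), ((0, 2, 2), (0, 1, 1), (0, 0, 0)), ((1, 0, 0), (1, 1, 1), (1, 2, 2)), ((1, 0, 1), (0, 0, 0), (2, 1, 0)), ((1, 0, 2), (1, 1, 1), (1, 2, 0)), ((1, 1, 1), (1, 0, 0), (1, 2, 2)), ((1, 1, 2), (1, 0, 0), (1, 2, 1)), ((1, 2, 0), (1, 1, 1), (1, 0, 2)), ((1, 2, 1), (1, 0, 0), (1, 1, 2)), ((1, 2, 2), (1, 1, 1), (1, 0, 0)), ((2, 0, 0), (2, 2, 2), (2, 1, 1)), ((2, 0, 1), (2, 1, 0), (2, 2, 2)), ((2,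 0, 2), (2, 1, 0), (2, 2, 1)), ((2, 1, 0), (2, 0, 1), (2, 2, 2)), ((2, 1, 1), (2, 2, 2), (2, 0, 0)), ((2, 1, 2), (1, 0, 1), (0, 2, 0)), ((2, 2, 0), (1, 0, 2), (0, 0, 0)), ((2, 2, 1), (2, 1, 0), (2, 0, 2)), ((2, 2, 2), (2, 1, 0), (2, 0, 1))], kind := 0, wit := (0, 0, 0),
     moves := [((1, 1, 0), [])],
     clr := [],
     forced := [] },
   { c := (1, 1, 2), zero := [((0, 0, 0), (0, 1, 1), (0, 2, 2)), ((0, 0, 1), (0, 1, 0), (0, 2, 2)), ((0, 0, 2), (0, 1, 0), (0, 2, 1)), ((0, 1, 0), (0, 0, 1), (0, 2, 2)), ((0, 1, 1), (0, 0, 0), (0, 2, 2)), ((0, 1, 2), (0, 0, 0), (0, 2, 1)), ((0, 2, 0), (0, 1, 2), (0, 0, 1)), ((0, 2, 1), (0, 1, 2), (0, 0, 0)), ((0, 2, 2), (0, 1, 1), (0, 0, 0)), ((1, 0, 0), (1, 1, 1), (1, 2, 2)), ((1, 0, 1), (1, 1, 0), (1, 2, 2)), ((1, 0, 2), (1,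 1, 0), (1, 2, 1)), ((1, 1, 0), (1, 0, 2), (1, 2, 1)), ((1, 1, 1), (1, 0, 2), (1, 2, 0)), ((1, 2, 0), (1, 1, 1), (1, 0, 2)), ((1, 2, 1), (1, 1, 0), (1, 0, 2)), ((1, 2, 2), (1, 1, 1), (1, 0, 0)), ((2, 0, 0), (1, 0, 0), (0, 0, 0)), ((2, 0, 1), (2, 1, 0), (2, 2, 2)), ((2, 0, 2), (2, 1, 0), (2, 2, 1)), ((2, 1, 0), (2, 0, 1), (2, 2, 2)), ((2, 1, 1), (1, 0, 1), (0, 1, 0)), ((2, 1, 2), (2, 0, 1), (2, 2, 0)), ((2, 2, 0), (2, 0, 1), (2, 1, 2)), ((2, 2, 1), (2, 1, 0), (2, 0, 2)), ((2, 2, 2), (2, 1, 0), (2, 0, 1))], kind := 0, wit := (0, 0, 0),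
     moves := [((1, 1, 2), [])],
     clr := [],
     forced := [] },
   { c := (1, 2, 0), zero := [((0, 0, 0), (0, 1, 1), (0, 2, 2)), ((0, 0, 1), (0, 1, 0), (0, 2, 2)), ((0, 0, 2), (0, 1, 0), (0, 2, 1)), ((0, 1, 0), (0, 0, 1), (0, 2, 2)), ((0, 1, 1), (0, 0, 0), (0, 2, 2)), ((0, 1, 2), (0, 0, 0), (0, 2, 1)), ((0, 2, 0), (0, 1, 2), (0, 0, 1)), ((0, 2, 1), (0, 1, 2), (0, 0, 0)), ((0, 2, 2), (0, 1, 1), (0, 0, 0)), ((1, 0, 0), (1, 1, 2), (1, 2, 1)), ((1, 0, 1), (1, 1, 0), (1, 2, 2)), ((1, 0, 2), (1, 1, 0), (1, 2, 1)), ((1, 1, 0), (1, 0, 2), (1, 2, 1)), ((1, 1, 1), (1, 0, 0), (1, 2, 2)), ((1, 1, 2), (1, 0, 0), (1, 2, 1)), ((1, 2, 1), (1, 1, 2), (1, 0, 0)), ((1, 2, 2), (1, 1, 1), (1, 0, 0)), ((2, 0, 0), (2, 2, 2), (2, 1, 1)), ((2, 0, 1), (2, 1, 0), (2, 2, 2)), ((2,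 0, 2), (2, 1, 0), (2, 2, 1)), ((2, 1, 0), (2, 0, 1), (2, 2, 2)), ((2, 1, 1), (2, 2, 2), (2, 0, 0)), ((2, 1, 2), (1, 0, 1), (0, 2, 0)), ((2, 2, 0), (1, 0, 2), (0, 0, 0)), ((2, 2, 1), (2, 1, 0), (2, 0, 2)), ((2, 2, 2), (2, 1, 0), (2, 0, 1))], kind := 0, wit := (0, 0, 0),
     moves := [((1, 2, 0), [])],
     clr := [],
     forced := [] },
   { c := (1, 2, 2), zero := [((0, 0, 0), (0, 1, 1), (0, 2, 2)), ((0, 0, 1), (0, 1, 0), (0, 2, 2)), ((0, 0, 2), (0, 1, 0), (0, 2, 1)), ((0, 1, 0), (0, 0, 1), (0, 2, 2)), ((0, 1, 1), (0, 0, 0), (0, 2, 2)), ((0, 1, 2), (0, 0, 0), (0, 2, 1)), ((0, 2, 0), (0, 1, 2), (0, 0, 1)), ((0, 2, 1), (0, 1, 2), (0, 0, 0)), ((0, 2, 2), (0, 1, 1), (0, 0, 0)), ((1, 0, 0), (1, 1, 2), (1, 2, 1)), ((1, 0, 1), (1, 1, 2), (1, 2, 0)), ((1, 0, 2), (1,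 1, 0), (1, 2, 1)), ((1, 1, 0), (1, 0, 2), (1, 2, 1)), ((1, 1, 1), (1, 0, 2), (1, 2, 0)), ((1, 1, 2), (1, 0, 0), (1, 2, 1)), ((1, 2, 0), (1, 1, 2), (1, 0, 1)), ((1, 2, 1), (1, 1, 2), (1, 0, 0)), ((2, 0, 0), (1, 0, 0), (0, 0, 0)), ((2, 0, 1), (2, 1, 0), (2, 2, 2)), ((2, 0, 2), (2, 1, 0), (2, 2, 1)), ((2, 1, 0), (2, 0, 1), (2, 2, 2)), ((2, 1, 1), (1, 0, 1), (0, 1, 0)), ((2, 1, 2), (2, 0, 1), (2, 2, 0)), ((2, 2, 0), (2, 0, 1), (2, 1, 2)), ((2, 2, 1), (2, 1, 0), (2, 0, 2)), ((2, 2, 2), (2, 1, 0), (2, 0, 1))], kind := 0, wit := (0, 0, 0),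
     moves := [((1, 2, 2), [])],
     clr := [],
     forced := [] },
   { c := (2, 0, 0), zero := [((0, 0, 0), (0, 1, 1), (0, 2, 2)), ((0, 0, 1), (0, 1, 0), (0, 2, 2)), ((0, 0, 2), (0, 1, 0), (0, 2, 1)), ((0, 1, 0), (0, 0, 1), (0, 2, 2)), ((0, 1, 1), (0, 0, 0), (0, 2, 2)), ((0, 1, 2), (0, 0, 0), (0, 2, 1)), ((0, 2, 0), (0, 1, 2), (0, 0, 1)), ((0, 2, 1), (0, 1, 2), (0, 0, 0)), ((0, 2, 2), (0, 1, 1), (0, 0, 0)), ((1, 0, 0), (1, 1, 1), (1, 2, 2)), ((1, 0, 1), (1, 1, 0), (1, 2, 2)), ((1, 0, 2), (1, 1, 0), (1, 2, 1)), ((1, 1, 0), (1, 0, 1), (1, 2, 2)), ((1, 1, 1), (1, 0, 0), (1, 2, 2)), ((1, 1, 2), (1, 0, 0), (1, 2, 1)), ((1, 2, 0), (1, 1, 2), (1, 0, 1)), ((1, 2, 1), (1, 1, 2), (1, 0, 0)), ((1, 2, 2), (1, 1, 1), (1, 0, 0)), ((2, 0, 1), (2, 1, 0), (2, 2, 2)), ((2,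 0, 2), (2, 1, 0), (2, 2, 1)), ((2, 1, 0), (2, 0, 1), (2, 2, 2)), ((2, 1, 1), (1, 0, 1), (0, 1, 0)), ((2, 1, 2), (2, 0, 1), (2, 2, 0)), ((2, 2, 0), (2, 0, 1), (2, 1, 2)), ((2, 2, 1), (2, 1, 0), (2, 0, 2)), ((2, 2, 2), (2, 1, 0), (2, 0, 1))], kind := 0, wit := (0, 0, 0),
     moves := [((2, 0, 0), [])],
     clr := [],
     forced := [] },
   { c := (2, 0, 2), zero := [((0, 0, 0), (0, 1, 1), (0, 2, 2)), ((0, 0, 1), (0, 1, 0), (0, 2, 2)), ((0, 0, 2), (0, 1, 0), (0, 2, 1)), ((0, 1, 0), (0, 0, 1), (0, 2, 2)), ((0, 1, 1), (0, 0, 0), (0, 2, 2)), ((0, 1, 2), (0, 0, 0), (0, 2, 1)), ((0, 2, 0), (0, 1, 2), (0, 0, 1)), ((0, 2, 1), (0, 1, 2), (0, 0, 0)), ((0, 2, 2), (0, 1, 1), (0, 0, 0)), ((1, 0, 0), (1, 1, 1), (1, 2, 2)), ((1, 0, 1), (1, 1, 0), (1, 2, 2)), ((1, 0, 2), (1,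 1, 0), (1, 2, 1)), ((1, 1, 0), (1, 0, 1), (1, 2, 2)), ((1, 1, 1), (1, 0, 0), (1, 2, 2)), ((1, 1, 2), (1, 0, 0), (1, 2, 1)), ((1, 2, 0), (1, 1, 2), (1, 0, 1)), ((1, 2, 1), (1, 1, 2), (1, 0, 0)), ((1, 2, 2), (1, 1, 1), (1, 0, 0)), ((2, 0, 0), (2, 2, 2), (2, 1, 1)), ((2, 0, 1), (2, 1, 0), (2, 2, 2)), ((2, 1, 0), (2, 0, 1), (2, 2, 2)), ((2, 1, 1), (2, 0, 0), (2, 2, 2)), ((2, 1, 2), (2, 0, 0), (2, 2, 1)), ((2, 2, 0), (2, 0, 1), (2, 1, 2)), ((2, 2, 1), (2, 0, 0), (2, 1, 2)), ((2, 2, 2), (2, 0, 0), (2, 1, 1))], kind := 0, wit := (0, 0, 0),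
     moves := [((2, 0, 2), [])],
     clr := [],
     forced := [] },
   { c := (2, 1, 1), zero := [((0, 0, 0), (0, 1, 1), (0, 2, 2)), ((0, 0, 1), (0, 1, 0), (0, 2, 2)), ((0, 0, 2), (0, 1, 0), (0, 2, 1)), ((0, 1, 0), (0, 0, 1), (0, 2, 2)), ((0, 1, 1), (0, 0, 0), (0, 2, 2)), ((0, 1, 2), (0, 0, 0), (0, 2, 1)), ((0, 2, 0), (0, 1, 2), (0, 0, 1)), ((0, 2, 1), (0, 1, 2), (0, 0, 0)), ((0, 2, 2), (0, 1, 1), (0, 0, 0)), ((1, 0, 0), (1, 1, 1), (1, 2, 2)), ((1, 0, 1), (1, 1, 0), (1, 2, 2)), ((1, 0, 2), (1, 1, 0), (1, 2, 1)), ((1, 1, 0), (1, 0, 1), (1, 2, 2)), ((1, 1, 1), (1, 0, 0), (1, 2, 2)), ((1, 1, 2), (1, 0, 0), (1, 2, 1)), ((1, 2, 0), (1, 1, 2), (1, 0, 1)), ((1, 2, 1), (1, 1, 2), (1, 0, 0)), ((1, 2, 2), (1, 1, 1), (1, 0, 0)), ((2, 0, 0), (1, 0, 0), (0, 0, 0)), ((2,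 0, 1), (2, 1, 0), (2, 2, 2)), ((2, 0, 2), (2, 1, 0), (2, 2, 1)), ((2, 1, 0), (2, 0, 1), (2, 2, 2)), ((2, 1, 2), (2, 0, 1), (2, 2, 0)), ((2, 2, 0), (2, 0, 1), (2, 1, 2)), ((2, 2, 1), (2, 1, 0), (2, 0, 2)), ((2, 2, 2), (2, 1, 0), (2, 0, 1))], kind := 0, wit := (0, 0, 0),
     moves := [((2, 1, 1), [])],
     clr := [],
     forced := [] },
   { c := (2, 1, 2), zero := [((0, 0, 0), (0, 1, 1), (0, 2, 2)), ((0, 0, 1), (0, 1, 0), (0, 2, 2)), ((0, 0, 2), (0, 1, 0), (0, 2, 1)), ((0, 1, 0), (0, 0, 1), (0, 2, 2)), ((0, 1, 1), (0, 0, 0), (0, 2, 2)), ((0, 1, 2), (0, 0, 0), (0, 2, 1)), ((0, 2, 0), (0, 1, 2), (0, 0, 1)), ((0, 2, 1), (0, 1, 2), (0, 0, 0)), ((0, 2, 2), (0, 1, 1), (0, 0, 0)), ((1, 0, 0), (1, 1, 1), (1, 2, 2)), ((1, 0, 1), (1, 1, 0), (1, 2, 2)), ((1, 0, 2), (1,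 1, 0), (1, 2, 1)), ((1, 1, 0), (1, 0, 1), (1, 2, 2)), ((1, 1, 1), (1, 0, 0), (1, 2, 2)), ((1, 1, 2), (1, 0, 0), (1, 2, 1)), ((1, 2, 0), (1, 1, 2), (1, 0, 1)), ((1, 2, 1), (1, 1, 2), (1, 0, 0)), ((1, 2, 2), (1, 1, 1), (1, 0, 0)), ((2, 0, 0), (2, 1, 1), (2, 2, 2)), ((2, 0, 1), (2, 1, 0), (2, 2, 2)), ((2, 0, 2), (2, 1, 0), (2, 2, 1)), ((2, 1, 0), (2, 0, 1), (2, 2, 2)), ((2, 1, 1), (2, 0, 0), (2, 2, 2)), ((2, 2, 0), (2, 1, 1), (2, 0, 2)), ((2, 2, 1), (2, 1, 0), (2, 0, 2)), ((2, 2, 2), (2, 1, 1), (2, 0, 0))], kind := 0, wit := (0, 0, 0),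
     moves := [((2, 1, 2), [])],
     clr := [],
     forced := [] },
   { c := (2, 2, 0), zero := [((0, 0, 0), (0, 1, 1), (0, 2, 2)), ((0, 0, 1), (0, 1, 0), (0, 2, 2)), ((0, 0, 2), (0, 1, 0), (0, 2, 1)), ((0, 1, 0), (0, 0, 1), (0, 2, 2)), ((0, 1, 1), (0, 0, 0), (0, 2, 2)), ((0, 1, 2), (0, 0, 0), (0, 2, 1)), ((0, 2, 0), (0, 1, 2), (0, 0, 1)), ((0, 2, 1), (0, 1, 2), (0, 0, 0)), ((0, 2, 2), (0, 1, 1), (0, 0, 0)), ((1, 0, 0), (1, 1, 1), (1, 2, 2)), ((1, 0, 1), (1, 1, 0), (1, 2, 2)), ((1, 0, 2), (1, 1, 0), (1, 2, 1)), ((1, 1, 0), (1, 0, 1), (1, 2, 2)), ((1, 1, 1), (1, 0, 0), (1, 2, 2)), ((1, 1, 2), (1, 0, 0), (1, 2, 1)), ((1, 2, 0), (1, 1, 2), (1, 0, 1)), ((1, 2, 1), (1, 1, 2), (1, 0, 0)), ((1, 2, 2), (1, 1, 1), (1, 0, 0)), ((2, 0, 0), (2, 1, 1), (2, 2, 2)), ((2,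 0, 1), (2, 1, 0), (2, 2, 2)), ((2, 0, 2), (2, 1, 0), (2, 2, 1)), ((2, 1, 0), (2, 0, 1), (2, 2, 2)), ((2, 1, 1), (2, 0, 0), (2, 2, 2)), ((2, 1, 2), (2, 0, 0), (2, 2, 1)), ((2, 2, 1), (2, 1, 2), (2, 0, 0)), ((2, 2, 2), (2, 1, 1), (2, 0, 0))], kind := 0, wit := (0, 0, 0),
     moves := [((2, 2, 0), [])],
     clr := [],
     forced := [] },
   { c := (2, 2, 1), zero := [((0, 0, 0), (0, 1, 1), (0, 2, 2)), ((0, 0, 1), (0, 1, 0), (0, 2, 2)), ((0, 0, 2), (0, 1, 0), (0, 2, 1)), ((0, 1, 0), (0, 0, 1), (0, 2, 2)), ((0, 1, 1), (0, 0, 0), (0, 2, 2)), ((0, 1, 2), (0, 0, 0), (0, 2, 1)), ((0, 2, 0), (0, 1, 2), (0, 0, 1)), ((0, 2, 1), (0, 1, 2), (0, 0, 0)), ((0, 2, 2), (0, 1, 1), (0, 0, 0)), ((1, 0, 0), (1, 1, 1), (1, 2, 2)), ((1, 0, 1), (1, 1, 0), (1, 2, 2)), ((1, 0, 2), (1,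 1, 0), (1, 2, 1)), ((1, 1, 0), (1, 0, 1), (1, 2, 2)), ((1, 1, 1), (1, 0, 0), (1, 2, 2)), ((1, 1, 2), (1, 0, 0), (1, 2, 1)), ((1, 2, 0), (1, 1, 2), (1, 0, 1)), ((1, 2, 1), (1, 1, 2), (1, 0, 0)), ((1, 2, 2), (1, 1, 1), (1, 0, 0)), ((2, 0, 0), (2, 1, 1), (2, 2, 2)), ((2, 0, 1), (2, 1, 0), (2, 2, 2)), ((2, 0, 2), (2, 1, 1), (2, 2, 0)), ((2, 1, 0), (2, 0, 1), (2, 2, 2)), ((2, 1, 1), (2, 0, 0), (2, 2, 2)), ((2, 1, 2), (2, 0, 1), (2, 2, 0)), ((2, 2, 0), (2, 1, 2), (2, 0, 1)), ((2, 2, 2), (2, 1, 1), (2, 0, 0))], kind := 0, wit := (0, 0, 0),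
     moves := [((2, 2, 1), [])],
     clr := [],
     forced := [] }]

set_option maxHeartbeats 2000000 in
/-- Torus data `(root, opposite root, sign, coordinate)`. -/
def torusD : List (ℕ × ℕ × ℤ × I27) :=
  [(16, 55, 1, (0, 0, 0)),
   (5, 66, 1, (0, 0, 1)),
   (2, 69, 1, (0, 0, 2)),
   (34, 37, 1, (0, 1, 0)),
   (46, 25, 1, (1, 0, 0)),
   (70, 1, 1, (1, 0, 1))]

set_option maxHeartbeats 2000000 in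
/-- Triangles closing the torus coordinates. -/
def derive : List (I27 × I27 × I27) :=
  [((0, 0, 1), (0, 1, 0), (0, 2, 2)),
   ((0, 0, 2), (0, 1, 0), (0, 2, 1)),
   ((0, 2, 2), (0, 0, 0), (0, 1, 1)),
   ((0, 2, 1), (0, 0, 0), (0, 1, 2)),
   ((0, 0, 1), (0, 1, 2), (0, 2, 0)),
   ((0, 0, 0), (1, 0, 0), (2, 0, 0)),
   ((2, 0, 0), (0, 0, 1), (1, 1, 0)),
   ((2, 0, 0), (0, 0, 2), (1, 2, 0)),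
   ((0, 1, 0), (1, 0, 0), (2, 0, 1)),
   ((0, 2, 0), (1, 0, 0), (2, 0, 2)),
   ((1, 0, 1), (1, 1, 0), (1, 2, 2)),
   ((1, 2, 0), (1, 0, 1), (1, 1, 2)),
   ((0, 0, 0), (1, 0, 1), (2, 1, 0)),
   ((2, 1, 0), (0, 0, 1), (1, 1, 1)),
   ((0, 0, 1), (1, 1, 2), (2, 2, 0)),
   ((2, 1, 0), (0, 0, 2), (1, 2, 1)),
   ((0, 1, 0), (1, 0, 1), (2, 1, 1)),
   ((0, 1, 1), (1, 1, 2), (2, 2, 1)),
   ((0, 2, 0), (1, 0, 1), (2, 1, 2)),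
   ((0, 2, 1), (1, 1, 2), (2, 2, 2)),
   ((1, 1, 0), (1, 2, 1), (1, 0, 2))]

end CfsgLib.ChevE6Cubic
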