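import Mathlib
import Cfsg.Prelude.Def_ChevE6
import Cfsg.Agent.ChevOrth.Poly
import Cfsg.Agent.ChevE6Cubic.Data

/-!
Kernel checks on the tables: relations, invariance of the cubic form and torus facts.
-/

set_option autoImplicit false

namespace CfsgLib.ChevE6Cubic

open Cfsg.Lie CfsgLib.Chevalley CfsgLib.ChevOrth

/-- Entries of a root vector. -/
def entX (r : ℕ) : List (I27 × I27 × ℤ) := rootsX.getD r []

/-- Root vectors as sparse matrices. -/
def sparseX (r : ℕ) : List (Trm I27) := (entX r).map fun e => (e.1, e.2.1, e.2.2, 0, 0)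

/-- Scaling. -/
def tscl (k : ℤ) (A : List (Trm I27)) : List (Trm I27) :=
  A.map fun x => (x.1, x.2.1, k * x.2.2.1, x.2.2.2)

/-- The relations for a pair of roots. -/
def pairB (r s : ℕ) : Bool :=
  match chevE6.commTerms r s with
  | [] => teqB (tmul (sparseX s) (sparseX r)) (tmul (sparseX r) (sparseX s))
  | [(k, C, 1, 1)] => decide (k < 72) &&
      teqB (tmul (sparseX s) (sparseX r) ++ tscl C (sparseX k))
        (tmul (sparseX r) (sparseX s)) &&
      teqB (tmul (sparseX r) (sparseX k)) [] && teqB (tmul (sparseX s) (sparseX k)) []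
  | _ => false

/-- All relations. -/
def relB : Bool :=
  (List.range 72).all fun r => teqB (tmul (sparseX r) (sparseX r)) [] &&
    (List.range 72).all fun s => decide (s = r) || decide (s = chevE6.neg r) || pairB r s

/-- The relations with first root `r`. -/
def relRow (r : ℕ) : Bool :=
  teqB (tmul (sparseX r) (sparseX r)) [] &&
    (List.range 72).all fun s => decide (s = r) || decide (s = chevE6.neg r) || pairB r s

theorem relRows0 : ([0, 1, 2, 3, 4, 5, 6, 7, 8, 9, 10, 11, 12, 13, 14, 15, 16, 17].all relRow) = true := by decide +kernel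

theorem relRows1 : ([18, 19, 20, 21, 22, 23, 24, 25, 26, 27, 28, 29, 30, 31, 32, 33, 34, 35].all relRow) = true := by decide +kernel

theorem relRows2 : ([36, 37, 38, 39, 40, 41, 42, 43, 44, 45, 46, 47, 48, 49, 50, 51, 52, 53].all relRow) = true := by decide +kernel

theorem relRows3 : ([54, 55, 56, 57, 58, 59, 60, 61, 62, 63, 64, 65, 66, 67, 68, 69, 70, 71].all relRow) = true := by decide +kernel

theorem relB_ok : relB = true := by
  refine List.all_eq_true.2 fun r hr => ?_
  rw [List.mem_range] at hr
  show relRow r = true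
  rcases (show r < 18 ∨ (18 ≤ r ∧ r < 36) ∨ (36 ≤ r ∧ r < 54) ∨ (54 ≤ r) by omega) with h | h | h | h
  · exact List.all_eq_true.1 relRows0 r (by simp only [List.mem_cons, List.not_mem_nil, or_false]; omega)
  · exact List.all_eq_true.1 relRows1 r (by simp only [List.mem_cons, List.not_mem_nil, or_false]; omega)
  · exact List.all_eq_true.1 relRows2 r (by simp only [List.mem_cons, List.not_mem_nil, or_false]; omega)
  · exact List.all_eq_true.1 relRows3 r (by simp only [List.mem_cons, List.not_mem_nil, or_false]; omega)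

/-- The coordinate of the image as terms `(coefficient, power, coordinate)`. -/
def imgT (r : ℕ) (a : I27) : List (ℤ × ℕ × I27) :=
  (1, 0, a) :: ((entX r).filter fun e => e.1 = a).map fun e => (e.2.2, 1, e.2.1)

/-- A code for a coordinate. -/
def code (a : I27) : ℕ := 9 * a.1.val + 3 * a.2.1.val + a.2.2.val

/-- Sort a triple of coordinates. -/
def sort3 (a b c : I27) : I27 × I27 × I27 :=
  if code a ≤ code b then
    (if code b ≤ code c then (a, b, c) else if code a ≤ code c then (a, c, b) else (c, a, b))
  else
    (if code a ≤ code c then (b, a, c) else if code b ≤ code c then (b, c, a) else (c, b, a))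

/-- Terms `(coefficient, power, sorted monomial)`. -/
abbrev CTerm : Type := ℤ × ℕ × I27 × I27 × I27

/-- Insert a term, merging equal keys. -/
def cins (x : CTerm) : List CTerm → List CTerm
  | [] => [x]
  | y :: L => if x.2 = y.2 then (x.1 + y.1, y.2) :: L else y :: cins x L

/-- The pulled-back form. -/
def expand (r : ℕ) : List CTerm :=
  monos.flatMap fun m => (imgT r m.2.1).flatMap fun x => (imgT r m.2.2.1).flatMap fun y =>
    (imgT r m.2.2.2).map fun z =>
      (m.1 * x.1 * y.1 * z.1, x.2.1 + y.2.1 + z.2.1, sort3 x.2.2 y.2.2 z.2.2)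

/-- A negated monomial as a term. -/
def negTerm (m : ℤ × I27 × I27 × I27) : CTerm := (-m.1, 0, sort3 m.2.1 m.2.2.1 m.2.2.2)

/-- Invariance of the form. -/
def invB : Bool :=
  (List.range 72).all fun r =>
    ((expand r ++ monos.map negTerm).foldr cins []).all
      fun x => decide (x.1 = 0)

/-- Invariance under the root `r`. -/
def invRow (r : ℕ) : Bool := ((expand r ++ monos.map negTerm).foldr cins []).all fun x => decide (x.1 = 0)

theorem invRows0 : ([0, 1, 2, 3, 4, 5, 6, 7, 8, 9, 10, 11, 12, 13, 14, 15, 16, 17, 18, 19, 20, 21, 22, 23, 24, 25, 26, 27, 28, 29, 30, 31, 32, 33, 34, 35].all invRow) = true := by decide +kernel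

theorem invRows1 : ([36, 37, 38, 39, 40, 41, 42, 43, 44, 45, 46, 47, 48, 49, 50, 51, 52, 53, 54, 55, 56, 57, 58, 59, 60, 61, 62, 63, 64, 65, 66, 67, 68, 69, 70, 71].all invRow) = true := by decide +kernel

theorem invB_ok : invB = true := by
  refine List.all_eq_true.2 fun r hr => ?_
  rw [List.mem_range] at hr
  show invRow r = true
  rcases (show r < 36 ∨ (36 ≤ r) by omega) with h | h
  · exact List.all_eq_true.1 invRows0 r (by simp only [List.mem_cons, List.not_mem_nil, or_false]; omega)
  · exact List.all_eq_true.1 invRows1 r (by simp only [List.mem_cons, List.not_mem_nil, or_false]; omega)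

/-- Torus facts for `(root, opposite root, sign)`. -/
def torB (q : ℕ × ℕ × ℤ × I27) : Bool :=
  let A := sparseX q.1
  let B := tscl q.2.2.1 (sparseX q.2.1)
  teqB (tmul (tmul A B) A) A && teqB (tmul (tmul B A) B) B &&
    teqB (tmul A B) ((entX q.1).map fun e => (e.1, e.1, 1, 0, 0)) &&
    teqB (tmul B A) ((entX q.1).map fun e => (e.2.1, e.2.1, 1, 0, 0)) &&
    teqB (tmul A A) [] && teqB (tmul B B) [] &&
    decide ((((entX q.1).map fun e => e.1) ++ (entX q.1).map fun e => e.2.1).Nodup)

theorem torB_ok : torusD.all torB = true := by decide +kernel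

end CfsgLib.ChevE6Cubic
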