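import Mathlib
import Cfsg.Agent.ChevE6Cubic.Rep

/-!
Every isometry of the cubic form is a product of root elements.
-/

set_option autoImplicit false
set_option linter.unusedSectionVars false

namespace CfsgLib.ChevE6Cubic

open Cfsg.Lie CfsgLib.ChevOrth
open scoped Matrix

/-- All coordinates. -/
def allI : List I27 :=
  ([0, 1, 2] : List (Fin 3)).flatMap fun k => ([0, 1, 2] : List (Fin 3)).flatMap fun i =>
    ([0, 1, 2] : List (Fin 3)).map fun j => (k, i, j)

theorem mem_allI : ∀ a : I27, a ∈ allI := by decide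

/-- A list is a single unit entry at `d`. -/
def unitAt (L : List (ℤ × I27)) (d : I27) : Bool :=
  decide (L = [(1, d)]) || decide (L = [(-1, d)])

/-- The root element fixes the given coordinate vectors. -/
def stabB (P : List I27) (r : ℕ) : Bool := (entX r).all fun e => decide (e.2.1 ∉ P)

/-- The root element adds a multiple of coordinate `d` to coordinate `e`. -/
def arrowB (r : ℕ) (e d : I27) : Bool :=
  decide ((entX r).filter (fun x => x.1 = e) = [(e, d, 1)]) ||
    decide ((entX r).filter (fun x => x.1 = e) = [(e, d, -1)])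

/-- A path of moves. -/
def pathB (P : List I27) (c : I27) : I27 → List (ℕ × I27) → Bool
  | d, [] => decide (d = c)
  | d, (r, e) :: L => stabB P r && arrowB r e d && pathB P c e L

/-- Checks for a forced zero. -/
def zeroB (P : List I27) (c : I27) (q : I27 × I27 × I27) : Bool :=
  decide (q.2.1 ∈ P) && unitAt (triC monos q.2.1 q.2.2) q.1 &&
    (((triJ monos q.2.1).all fun x => decide (x.2.1 ≠ c)) ||
      (decide (q.2.2 ∈ P) && decide (q.1 ≠ c)))

/-- Checks for clearing. -/
def clrB (P Z : List I27) (c : I27) : List I27 → List (I27 × ℕ) → Bool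
  | _, [] => true
  | done, (e, r) :: L => stabB P r && arrowB r e c && decide (e ≠ c) &&
      ((entX r).all fun x => decide (x.1 ≠ c) &&
        (decide (x.1 ∉ done) || decide (x.2.1 ∈ Z ++ done))) &&
      clrB P Z c (e :: done) L

/-- Checks for the quadratic equations. -/
def forceB (c : I27) : List I27 → List (I27 × I27) → Bool
  | zs, [] => allI.all fun a => decide (a = c) || decide (a ∈ zs)
  | zs, (f, d) :: L =>
      (match (diffC monos f).filter (fun q => q.2.1 ∉ zs ∧ q.2.2 ∉ zs) with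
        | [(k, x, y)] => decide (k * k = 1) && decide ((x, y) = (c, d) ∨ (x, y) = (d, c))
        | _ => false) && forceB c (d :: zs) L

/-- Checks for the non-zero coordinate. -/
def startB (P : List I27) (s : Step) : Bool :=
  let ok := s.zero.map (fun q => q.1) ++ s.moves.map (fun q => q.1)
  (decide (s.kind = 0) && allI.all fun d => decide (d ∈ P) || decide (d ∈ ok)) ||
    (decide (s.kind = 1) && decide (s.wit ∈ P) && (allI.any fun k =>
        unitAt (triC monos s.wit k) s.c) &&
      (triJ monos s.wit).all fun x => decide (x.2.1 ∈ ok)) ||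
    (decide (s.kind = 2) && decide (s.wit ∈ P) && P.any fun k =>
      unitAt (triC monos s.wit k) s.c)

/-- All checks of a step. -/
def stepB (P : List I27) (s : Step) : Bool :=
  decide (s.c ∉ P) && (s.zero.all fun q => zeroB P s.c q) && startB P s &&
    (s.moves.all fun q => pathB P s.c q.1 q.2) &&
    clrB P (s.zero.map fun q => q.1) s.c [] s.clr &&
    forceB s.c ((s.clr.map fun q => q.1) ++ s.zero.map fun q => q.1) s.forced

/-- All steps. -/
def stepsB : List I27 → List Step → Bool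
  | P, [] => allI.all fun a => decide (a ∈ P)
  | P, s :: L => stepB P s && stepsB (s.c :: P) L

/-- Torus checks. -/
def torsB : List I27 → List (ℕ × ℕ × ℤ × I27) → Bool
  | _, [] => true
  | Q, (r, _, _, a) :: L => decide (a ∈ (entX r).map fun e => e.1) &&
      (Q.all fun b => decide (b ∉ (entX r).map fun e => e.1) &&
        decide (b ∉ (entX r).map fun e => e.2.1)) &&
      torsB (a :: Q) L

/-- Closing checks. -/
def derB : List I27 → List (I27 × I27 × I27) → Bool
  | Q, [] => allI.all fun a => decide (a ∈ Q)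
  | Q, (a, b, d) :: L => decide (a ∈ Q) && decide (b ∈ Q) && unitAt (triC monos a b) d &&
      derB (d :: Q) L

theorem steps_ok : stepsB [] steps = true := by decide +kernel

theorem tors_ok : torsB [] torusD = true := by decide +kernel

theorem der_ok : derB ((torusD.map fun q => q.2.2.2).reverse) derive = true := by decide +kernel

theorem sqfree_ok : sqfreeB monos = true := by decide +kernel

variable {F : Type*} [Field F]

/-- Coordinate lines fixed by a matrix. -/
def Fix (g : GL I27 F) (P : List I27) : Prop :=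
  ∀ j ∈ P, ∃ μ : F, μ ≠ 0 ∧ (g : Matrix I27 I27 F) *ᵥ Pi.single j 1 = Pi.single j μ

/-- Invariance of the cubic form. -/
def Inv (g : GL I27 F) : Prop :=
  ∀ v : I27 → F, cval monos ((g : Matrix I27 I27 F) *ᵥ v) = cval monos v

theorem inv_of_mem {g : GL I27 F} (hg : g ∈ E6univ F) : Inv g := fun v => by
  rw [cval_eq_cubicT, cval_eq_cubicT]; exact hg v

theorem inv_mul {h g : GL I27 F} (hh : h ∈ grp F) (hg : Inv g) : Inv (h * g) := fun v => by
  rw [Units.val_mul, ← Matrix.mulVec_mulVec, inv_of_mem (grp_le hh) _, hg]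

theorem single_eq_smul (j : I27) (x : F) :
    (Pi.single j x : I27 → F) = x • Pi.single j 1 := by
  rw [← Pi.single_smul', smul_eq_mul, mul_one]

theorem gl_mulVec_of_ne (r : ℕ) (t : F) (v : I27 → F) (a : I27)
    (h : ∀ e ∈ entX r, e.1 = a → v e.2.1 = 0) :
    (((checked F).gl r t : Matrix I27 I27 F) *ᵥ v) a = v a := by
  rw [gl_mulVec, List.sum_eq_zero (fun y hy => ?_), mul_zero, add_zero]
  obtain ⟨e, he, rfl⟩ := List.mem_map.1 hy
  split_ifs with h'
  · rw [h e he h', mul_zero]
  · rfl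

theorem gl_arrow {r : ℕ} {e d : I27} (h : arrowB r e d = true) :
    ∃ x : F, x * x = 1 ∧ ∀ (t : F) (v : I27 → F),
      (((checked F).gl r t : Matrix I27 I27 F) *ᵥ v) e = v e + t * (x * v d) := by
  obtain ⟨k, hk, hf⟩ : ∃ k : ℤ, k * k = 1 ∧
      (entX r).filter (fun x => x.1 = e) = [(e, d, k)] := by
    simp only [arrowB, Bool.or_eq_true, decide_eq_true_eq] at h
    rcases h with h | h
    · exact ⟨1, rfl, h⟩
    · exact ⟨-1, rfl, h⟩
  refine ⟨k, by rw [← Int.cast_mul, hk, Int.cast_one], fun t v => ?_⟩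
  rw [gl_mulVec]
  congr 2
  have : ((entX r).map fun x => if x.1 = e then (x.2.2 : F) * v x.2.1 else 0).sum =
      (((entX r).filter (fun x => x.1 = e)).map fun x => (x.2.2 : F) * v x.2.1).sum := by
    induction entX r with
    | nil => simp
    | cons y L ih =>
      rw [List.map_cons, List.sum_cons, ih, List.filter_cons]
      by_cases hy : y.1 = e <;> simp [hy]
  rw [this, hf]
  simp

theorem fix_gl_mul {P : List I27} {r : ℕ} (h : stabB P r = true) (t : F) {g : GL I27 F}
    (hg : Fix g P) : Fix ((checked F).gl r t * g) P := by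
  intro j hj
  obtain ⟨μ, hμ, hgj⟩ := hg j hj
  refine ⟨μ, hμ, ?_⟩
  rw [Units.val_mul, ← Matrix.mulVec_mulVec, hgj]
  funext a
  simp only [stabB, List.all_eq_true, decide_eq_true_eq] at h
  refine gl_mulVec_of_ne r t _ a fun e he _ => ?_
  rw [Pi.single_eq_of_ne]
  exact fun hj' => h e he (hj' ▸ hj)

theorem unitAt_sum {L : List (ℤ × I27)} {d : I27} (h : unitAt L d = true) :
    ∃ k : F, k * k = 1 ∧ ∀ v : I27 → F, (L.map fun q => (q.1 : F) * v q.2).sum = k * v d := by
  simp only [unitAt, Bool.or_eq_true, decide_eq_true_eq] at h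
  rcases h with rfl | rfl
  · exact ⟨1, one_mul 1, fun v => by simp⟩
  · exact ⟨-1, by simp, fun v => by simp⟩

theorem tri_unit {j f d : I27} (h : unitAt (triC monos j f) d = true) :
    ∃ k : F, k * k = 1 ∧ ∀ v : I27 → F,
      ctri monos (Pi.single j 1) v (Pi.single f 1) = k * v d := by
  obtain ⟨k, hk, h'⟩ := unitAt_sum (F := F) h
  exact ⟨k, hk, fun v => by rw [ctri_single, h']⟩

theorem surj_mulVec (g : GL I27 F) (y : I27 → F) :
    ∃ x, (g : Matrix I27 I27 F) *ᵥ x = y :=
  ⟨((g⁻¹ : GL I27 F) : Matrix I27 I27 F) *ᵥ y, by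
    rw [Matrix.mulVec_mulVec, Units.mul_inv, Matrix.one_mulVec]⟩

section Step

variable {P : List I27} {c : I27} {g : GL I27 F} (hg : Inv g) (hF : Fix g P)
include hg hF

theorem tri_line {j : I27} (hj : j ∈ P) : ∃ μ : F, μ ≠ 0 ∧ ∀ x : I27 → F,
    μ * ctri monos (Pi.single j 1) ((g : Matrix I27 I27 F) *ᵥ Pi.single c 1)
      ((g : Matrix I27 I27 F) *ᵥ x) = ctri monos (Pi.single j 1) (Pi.single c 1) x := by
  obtain ⟨μ, hμ, he⟩ := hF j hj
  refine ⟨μ, hμ, fun x => ?_⟩
  rw [← ctri_inv hg (Pi.single j 1) (Pi.single c 1) x, he, single_eq_smul j μ]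
  have h := ctri_smul monos μ 1 1 (Pi.single j 1) ((g : Matrix I27 I27 F) *ᵥ Pi.single c 1)
    ((g : Matrix I27 I27 F) *ᵥ x)
  simp only [one_smul, mul_one] at h
  rw [h]

theorem tri_two {j f : I27} (hj : j ∈ P) (hf : f ∈ P) : ∃ μ : F, μ ≠ 0 ∧
    μ * ctri monos (Pi.single j 1) ((g : Matrix I27 I27 F) *ᵥ Pi.single c 1) (Pi.single f 1) =
      ctri monos (Pi.single j 1) (Pi.single c 1) (Pi.single f 1) := by
  obtain ⟨μ, hμ, hx⟩ := tri_line (c := c) hg hF hj
  obtain ⟨ν, hν, he⟩ := hF f hf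
  refine ⟨μ * ν, mul_ne_zero hμ hν, ?_⟩
  rw [← hx, he, single_eq_smul f ν]
  have h := ctri_smul monos 1 1 ν (Pi.single j 1) ((g : Matrix I27 I27 F) *ᵥ Pi.single c 1)
    (Pi.single f 1)
  simp only [one_smul, one_mul] at h
  rw [h, mul_assoc]

theorem zero_of_zeroB {q : I27 × I27 × I27} (hq : zeroB P c q = true) :
    ((g : Matrix I27 I27 F) *ᵥ Pi.single c 1) q.1 = 0 := by
  simp only [zeroB, Bool.and_eq_true, Bool.or_eq_true, decide_eq_true_eq, List.all_eq_true] at hq
  obtain ⟨⟨hj, hu⟩, hor⟩ := hq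
  obtain ⟨k, hk, hk'⟩ := tri_unit (F := F) hu
  have hk0 : k ≠ 0 := fun e => by simp [e] at hk
  suffices ctri monos (Pi.single q.2.1 1) ((g : Matrix I27 I27 F) *ᵥ Pi.single c 1)
      (Pi.single q.2.2 1) = 0 by
    rw [hk'] at this
    exact (mul_eq_zero.1 this).resolve_left hk0
  rcases hor with hor | ⟨hf, hne⟩
  · obtain ⟨μ, hμ, hx⟩ := tri_line (c := c) hg hF hj
    obtain ⟨x, hxe⟩ := surj_mulVec g (Pi.single q.2.2 1)
    have := hx x
    rw [hxe, ctri_singleJ monos q.2.1 (Pi.single c 1) x, List.sum_eq_zero (fun y hy => ?_)] at this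
    · exact (mul_eq_zero.1 this).resolve_left hμ
    · obtain ⟨z, hz, rfl⟩ := List.mem_map.1 hy
      rw [Pi.single_eq_of_ne (hor z hz)]
      ring
  · obtain ⟨μ, hμ, hx⟩ := tri_two (c := c) hg hF hj hf
    rw [hk' (Pi.single c 1), Pi.single_eq_of_ne hne, mul_zero] at hx
    exact (mul_eq_zero.1 hx).resolve_left hμ

theorem nonzero_of_startB {s : Step} (hs : startB P s = true) (hc : s.c = c) (hcP : c ∉ P)
    (hz : ∀ q ∈ s.zero, ((g : Matrix I27 I27 F) *ᵥ Pi.single c 1) q.1 = 0) :
    ((g : Matrix I27 I27 F) *ᵥ Pi.single c 1) c ≠ 0 ∨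
      ∃ q ∈ s.moves, ((g : Matrix I27 I27 F) *ᵥ Pi.single c 1) q.1 ≠ 0 := by
  subst hc
  set v := (g : Matrix I27 I27 F) *ᵥ Pi.single s.c 1 with hv
  by_contra hno
  push Not at hno
  obtain ⟨hvc, hmv⟩ := hno
  have hok : ∀ d ∈ s.zero.map (fun q => q.1) ++ s.moves.map (fun q => q.1), v d = 0 := by
    intro d hd
    rcases List.mem_append.1 hd with h | h <;> obtain ⟨q, hq, rfl⟩ := List.mem_map.1 h
    · exact hz q hq
    · exact hmv q hq
  simp only [startB, Bool.and_eq_true, Bool.or_eq_true, decide_eq_true_eq, List.all_eq_true,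
    List.any_eq_true] at hs
  rcases hs with (⟨-, h0⟩ | ⟨⟨⟨-, hw⟩, k, -, hk⟩, hall⟩) | ⟨⟨-, hw⟩, k, hkP, hk⟩
  · choose μ hμ0 hμ using hF
    set u : I27 → F := fun a => if h : a ∈ P then v a / μ a h else 0 with hu
    have hgu : (g : Matrix I27 I27 F) *ᵥ u = v := by
      have hue : u = ∑ a, Pi.single a (u a) := (Finset.univ_sum_single u).symm
      rw [hue, Matrix.mulVec_sum]
      refine Eq.trans (Finset.sum_congr rfl fun a _ => ?_) (Finset.univ_sum_single v)
      rw [single_eq_smul a (u a), Matrix.mulVec_smul]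
      by_cases h : a ∈ P
      · rw [hμ a h, ← Pi.single_smul', smul_eq_mul, hu]
        simp only [dif_pos h]
        rw [div_mul_cancel₀ _ (hμ0 a h)]
      · rcases h0 a (mem_allI a) with h' | h'
        · exact absurd h' h
        · rw [hu]
          simp [dif_neg h, hok a h']
    have := congrArg (fun w => ((g⁻¹ : GL I27 F) : Matrix I27 I27 F) *ᵥ w) hgu
    simp only [hv, Matrix.mulVec_mulVec, Units.inv_mul, Matrix.one_mulVec] at this
    have h1 := congrFun this s.c
    simp [hu, hcP] at h1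
  · obtain ⟨μ, hμ, hx⟩ := tri_line (c := s.c) hg hF hw
    obtain ⟨k', hk', hk''⟩ := tri_unit (F := F) hk
    have := hx (Pi.single k 1)
    rw [hk'' (Pi.single s.c 1), Pi.single_eq_same, mul_one,
      ctri_singleJ monos s.wit ((g : Matrix I27 I27 F) *ᵥ Pi.single s.c 1),
      List.sum_eq_zero (fun y hy => ?_), mul_zero] at this
    · rw [← this] at hk'; simp at hk'
    · obtain ⟨z, hz', rfl⟩ := List.mem_map.1 hy
      rw [← hv, hok _ (hall z hz')]
      ring
  · obtain ⟨μ, hμ, hx⟩ := tri_two (c := s.c) hg hF hw hkP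
    obtain ⟨k', hk', hk''⟩ := tri_unit (F := F) hk
    rw [hk'' (Pi.single s.c 1), hk'', Pi.single_eq_same, mul_one, ← hv, hvc, mul_zero,
      mul_zero] at hx
    rw [← hx] at hk'; simp at hk'

theorem exists_of_path : ∀ (L : List (ℕ × I27)) (d : I27), pathB P c d L = true →
    ((g : Matrix I27 I27 F) *ᵥ Pi.single c 1) d ≠ 0 →
    ∃ h ∈ grp F, Fix (h * g) P ∧
      (((h * g : GL I27 F) : Matrix I27 I27 F) *ᵥ Pi.single c 1) c ≠ 0 := by
  intro L
  induction L generalizing g with
  | nil =>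
    intro d hp hd
    simp only [pathB, decide_eq_true_eq] at hp
    subst hp
    exact ⟨1, one_mem _, by rwa [one_mul], by rwa [one_mul]⟩
  | cons q L ih =>
    obtain ⟨r, e⟩ := q
    intro d hp hd
    simp only [pathB, Bool.and_eq_true] at hp
    obtain ⟨⟨hst, har⟩, hp⟩ := hp
    by_cases he : ((g : Matrix I27 I27 F) *ᵥ Pi.single c 1) e = 0
    · obtain ⟨x, hx, hxe⟩ := gl_arrow (F := F) har
      obtain ⟨h, hh, hhF, hhc⟩ := ih (g := (checked F).gl r 1 * g) (inv_mul (gl_mem F r 1) hg)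
        (fix_gl_mul hst 1 hF) e hp (by
          rw [Units.val_mul, ← Matrix.mulVec_mulVec, hxe, he, zero_add, one_mul]
          exact mul_ne_zero (fun e0 => by simp [e0] at hx) hd)
      exact ⟨h * (checked F).gl r 1, mul_mem hh (gl_mem F r 1), by rwa [mul_assoc],
        by rwa [mul_assoc]⟩
    · exact ih hg hF e hp he

theorem exists_clear (Z : List I27)
    (hZ : ∀ g' : GL I27 F, Inv g' → Fix g' P →
      ∀ d ∈ Z, ((g' : Matrix I27 I27 F) *ᵥ Pi.single c 1) d = 0) :
    ∀ (L : List (I27 × ℕ)) (done : List I27), clrB P Z c done L = true →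
    ((g : Matrix I27 I27 F) *ᵥ Pi.single c 1) c ≠ 0 →
    (∀ d ∈ done, ((g : Matrix I27 I27 F) *ᵥ Pi.single c 1) d = 0) →
    ∃ h ∈ grp F, Fix (h * g) P ∧
      (((h * g : GL I27 F) : Matrix I27 I27 F) *ᵥ Pi.single c 1) c ≠ 0 ∧
      ∀ d ∈ L.map (fun q => q.1) ++ done,
        (((h * g : GL I27 F) : Matrix I27 I27 F) *ᵥ Pi.single c 1) d = 0 := by
  intro L
  induction L generalizing g with
  | nil => intro done _ hc hd; exact ⟨1, one_mem _, by rwa [one_mul], by rwa [one_mul],
      fun d hd' => by rw [one_mul]; exact hd d (by simpa using hd')⟩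
  | cons q L ih =>
    obtain ⟨e, r⟩ := q
    intro done hp hc hd
    simp only [clrB, Bool.and_eq_true, Bool.or_eq_true, decide_eq_true_eq, List.all_eq_true] at hp
    obtain ⟨⟨⟨⟨hst, har⟩, hec⟩, hall⟩, hp⟩ := hp
    obtain ⟨x, hx, hxe⟩ := gl_arrow (F := F) har
    set v := (g : Matrix I27 I27 F) *ᵥ Pi.single c 1 with hv
    set t : F := -v e / (x * v c) with ht
    have hx0 : x ≠ 0 := fun e0 => by simp [e0] at hx
    have hw : ∀ a, (((checked F).gl r t * g : GL I27 F) : Matrix I27 I27 F) *ᵥ Pi.single c 1 = a →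
        a c = v c ∧ ∀ d ∈ e :: done, a d = 0 := by
      rintro a rfl
      rw [Units.val_mul, ← Matrix.mulVec_mulVec, ← hv]
      refine ⟨gl_mulVec_of_ne r t v c fun y hy h => absurd h (hall y hy).1, fun d hd' => ?_⟩
      rcases List.mem_cons.1 hd' with rfl | hd'
      · rw [hxe, ht, div_mul_cancel₀ _ (mul_ne_zero hx0 hc), add_neg_cancel]
      · rw [gl_mulVec_of_ne r t v d (fun y hy h => ?_), hd d hd']
        rcases (hall y hy).2 with h' | h'
        · exact absurd (h ▸ hd') h'
        · rcases List.mem_append.1 h' with h'' | h''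
          · exact hZ g hg hF _ h''
          · exact hd _ h''
    obtain ⟨hwc, hwd⟩ := hw _ rfl
    obtain ⟨h, hh, hhF, hhc, hhd⟩ := ih (g := (checked F).gl r t * g)
      (inv_mul (gl_mem F r t) hg) (fix_gl_mul hst t hF) (e :: done) hp (by rw [hwc]; exact hc) hwd
    refine ⟨h * (checked F).gl r t, mul_mem hh (gl_mem F r t), by rwa [mul_assoc],
      by rwa [mul_assoc], fun d hd' => ?_⟩
    rw [mul_assoc]
    refine hhd d ?_
    simp only [List.map_cons, List.cons_append, List.mem_cons, List.mem_append] at hd' ⊢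
    tauto

theorem forced_zero {a : F} (ha0 : a ≠ 0) (ha1 : a ≠ 1) :
    ∀ (L : List (I27 × I27)) (zs : List I27), forceB c zs L = true →
    ((g : Matrix I27 I27 F) *ᵥ Pi.single c 1) c ≠ 0 →
    (∀ d ∈ zs, ((g : Matrix I27 I27 F) *ᵥ Pi.single c 1) d = 0) →
    ∀ d, d ≠ c → ((g : Matrix I27 I27 F) *ᵥ Pi.single c 1) d = 0 := by
  intro L
  induction L with
  | nil =>
    intro zs hp _ hd d hdc
    simp only [forceB, List.all_eq_true, Bool.or_eq_true, decide_eq_true_eq] at hp
    rcases hp d (mem_allI d) with h | h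
    · exact absurd h hdc
    · exact hd d h
  | cons q L ih =>
    obtain ⟨f, d⟩ := q
    intro zs hp hc hd
    simp only [forceB, Bool.and_eq_true] at hp
    obtain ⟨hm, hp⟩ := hp
    refine ih (d :: zs) hp hc fun e he => ?_
    rcases List.mem_cons.1 he with rfl | he
    swap
    · exact hd e he
    split at hm
    · rename_i k x y hfil
      simp only [Bool.and_eq_true, decide_eq_true_eq] at hm
      set v := (g : Matrix I27 I27 F) *ᵥ Pi.single c 1 with hv
      obtain ⟨w, hw⟩ := surj_mulVec g (Pi.single f 1)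
      have h0 : cdiff monos v (Pi.single f 1) = 0 := by
        rw [hv, ← hw, cdiff_inv hg ha0 ha1, cdiff_basis sqfree_ok]
      rw [cdiff_single] at h0
      have hsum : ((diffC monos f).map fun q => (q.1 : F) * (v q.2.1 * v q.2.2)).sum =
          (((diffC monos f).filter fun q => q.2.1 ∉ zs ∧ q.2.2 ∉ zs).map
            fun q => (q.1 : F) * (v q.2.1 * v q.2.2)).sum := by
        induction diffC monos f with
        | nil => simp
        | cons z M ihM =>
          rw [List.map_cons, List.sum_cons, ihM, List.filter_cons]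
          by_cases hz : z.2.1 ∉ zs ∧ z.2.2 ∉ zs
          · simp [hz]
          · rcases not_and_or.1 hz with h | h <;> simp [hd _ (not_not.1 h), hz]
      rw [hsum, hfil] at h0
      simp only [List.map_cons, List.map_nil, List.sum_cons, List.sum_nil, add_zero] at h0
      have hk : (k : F) ≠ 0 := fun e0 => by
        have := congrArg (fun n : ℤ => (n : F)) hm.1
        simp [e0] at this
      have h1 := (mul_eq_zero.1 h0).resolve_left hk
      rcases hm.2 with h | h <;> simp only [Prod.mk.injEq] at h <;> obtain ⟨rfl, rfl⟩ := h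
      · exact (mul_eq_zero.1 h1).resolve_left hc
      · exact (mul_eq_zero.1 h1).resolve_right hc
    · exact absurd hm (by simp)

end Step

variable {a : F} (ha0 : a ≠ 0) (ha1 : a ≠ 1)
include ha0 ha1

theorem step {P : List I27} {s : Step} (hs : stepB P s = true) {g : GL I27 F} (hg : Inv g)
    (hF : Fix g P) : ∃ h ∈ grp F, Fix (h * g) (s.c :: P) := by
  simp only [stepB, Bool.and_eq_true, List.all_eq_true, decide_eq_true_eq] at hs
  obtain ⟨⟨⟨⟨⟨hcP, hz⟩, hst⟩, hmv⟩, hclr⟩, hfo⟩ := hs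
  have hZ : ∀ g' : GL I27 F, Inv g' → Fix g' P → ∀ d ∈ s.zero.map (fun q => q.1),
      ((g' : Matrix I27 I27 F) *ᵥ Pi.single s.c 1) d = 0 := by
    intro g' h1 h2 d hd
    obtain ⟨q, hq, rfl⟩ := List.mem_map.1 hd
    exact zero_of_zeroB h1 h2 (hz q hq)
  obtain ⟨h1, hh1, hF1, hc1⟩ : ∃ h ∈ grp F, Fix (h * g) P ∧
      (((h * g : GL I27 F) : Matrix I27 I27 F) *ᵥ Pi.single s.c 1) s.c ≠ 0 := by
    rcases nonzero_of_startB hg hF hst rfl hcP
      (fun q hq => hZ g hg hF _ (List.mem_map.2 ⟨q, hq, rfl⟩)) with h | ⟨q, hq, hne⟩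
    · exact ⟨1, one_mem _, by rwa [one_mul], by rwa [one_mul]⟩
    · exact exists_of_path hg hF q.2 q.1 (hmv q hq) hne
  have hg1 := inv_mul hh1 hg
  obtain ⟨h2, hh2, hF2, hc2, hd2⟩ := exists_clear hg1 hF1 _ hZ s.clr [] hclr hc1 (by simp)
  have hg2 := inv_mul hh2 hg1
  set v := ((h2 * (h1 * g) : GL I27 F) : Matrix I27 I27 F) *ᵥ Pi.single s.c 1 with hv
  have hall := forced_zero hg2 hF2 ha0 ha1 s.forced _ hfo hc2 fun d hd => by
    rcases List.mem_append.1 hd with h | h
    · exact hd2 d (by simpa using h)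
    · exact hZ _ hg2 hF2 d h
  refine ⟨h2 * h1, mul_mem hh2 hh1, fun j hj => ?_⟩
  rw [mul_assoc]
  rcases List.mem_cons.1 hj with rfl | hj
  · refine ⟨v s.c, hc2, ?_⟩
    rw [← hv]
    funext d
    by_cases hd : d = s.c
    · subst hd; simp
    · rw [Pi.single_eq_of_ne hd]; exact hall d hd
  · exact hF2 j hj

theorem steps_fix : ∀ (L : List Step) (P : List I27), stepsB P L = true → ∀ g : GL I27 F,
    Inv g → Fix g P → ∃ h ∈ grp F, Fix (h * g) allI := by
  intro L
  induction L with
  | nil =>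
    intro P hp g _ hF
    simp only [stepsB, List.all_eq_true, decide_eq_true_eq] at hp
    exact ⟨1, one_mem _, fun j _ => by rw [one_mul]; exact hF j (hp j (mem_allI j))⟩
  | cons s L ih =>
    intro P hp g hg hF
    simp only [stepsB, Bool.and_eq_true] at hp
    obtain ⟨h, hh, hF'⟩ := step ha0 ha1 hp.1 hg hF
    obtain ⟨h', hh', hF''⟩ := ih _ hp.2 (h * g) (inv_mul hh hg) hF'
    exact ⟨h' * h, mul_mem hh' hh, by rwa [mul_assoc]⟩

omit ha0 ha1

theorem tor_fix : ∀ (L : List (ℕ × ℕ × ℤ × I27)) (Q : List I27), torsB Q L = true →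
    (∀ q ∈ L, q ∈ torusD) → ∀ (g : GL I27 F) (μ : I27 → F), (∀ b, μ b ≠ 0) →
    (g : Matrix I27 I27 F) = Matrix.diagonal μ → (∀ b ∈ Q, μ b = 1) →
    ∃ h ∈ grp F, ∃ ν : I27 → F, ((h * g : GL I27 F) : Matrix I27 I27 F) = Matrix.diagonal ν ∧
      ∀ b ∈ (L.map fun q => q.2.2.2).reverse ++ Q, ν b = 1 := by
  intro L
  induction L with
  | nil =>
    intro Q _ _ g μ _ hg hQ
    exact ⟨1, one_mem _, μ, by rw [one_mul, hg], by simpa using hQ⟩
  | cons q L ih =>
    obtain ⟨r, r', σ, a⟩ := q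
    intro Q hp hmem g μ hμ hg hQ
    simp only [torsB, Bool.and_eq_true, List.all_eq_true, decide_eq_true_eq] at hp
    obtain ⟨⟨ha, hQ'⟩, hp⟩ := hp
    obtain ⟨h, hh, he⟩ := exists_tor (hmem _ List.mem_cons_self) (inv_ne_zero (hμ a))
    obtain ⟨h', hh', ν, hν, hν1⟩ := ih (a :: Q) hp (fun q hq => hmem q (List.mem_cons_of_mem _ hq))
      (h * g) (fun b => tval r (μ a)⁻¹ b * μ b)
      (fun b => mul_ne_zero (by
        unfold tval
        split_ifs <;> simp [hμ a]) (hμ b))
      (by rw [Units.val_mul, he, hg, Matrix.diagonal_mul_diagonal])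
      (fun b hb => by
        rcases List.mem_cons.1 hb with rfl | hb
        · simp [tval, ha, hμ b]
        · simp [tval, (hQ' b hb).1, (hQ' b hb).2, hQ b hb])
    refine ⟨h' * h, mul_mem hh' hh, ν, by rw [mul_assoc]; exact hν, fun b hb => hν1 b ?_⟩
    simpa [List.mem_cons, or_assoc, or_comm, or_left_comm] using hb

theorem der_one {g : GL I27 F} (hg : Inv g) {ν : I27 → F}
    (he : (g : Matrix I27 I27 F) = Matrix.diagonal ν) :
    ∀ (L : List (I27 × I27 × I27)) (Q : List I27), derB Q L = true → (∀ b ∈ Q, ν b = 1) →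
      ∀ b, ν b = 1 := by
  intro L
  induction L with
  | nil =>
    intro Q hp hQ b
    simp only [derB, List.all_eq_true, decide_eq_true_eq] at hp
    exact hQ b (hp b (mem_allI b))
  | cons q L ih =>
    obtain ⟨x, y, d⟩ := q
    intro Q hp hQ
    simp only [derB, Bool.and_eq_true, decide_eq_true_eq] at hp
    obtain ⟨⟨⟨hx, hy⟩, hu⟩, hp⟩ := hp
    refine ih (d :: Q) hp fun b hb => ?_
    rcases List.mem_cons.1 hb with rfl | hb
    swap
    · exact hQ b hb
    obtain ⟨k, hk, hk'⟩ := tri_unit (F := F) hu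
    have hd : ∀ j, (g : Matrix I27 I27 F) *ᵥ Pi.single j 1 = Pi.single j (ν j) := fun j => by
      rw [he, Matrix.diagonal_mulVec_single, mul_one]
    have := ctri_inv hg (Pi.single x 1) (Pi.single b 1) (Pi.single y 1)
    rw [hd, hd, hd, hQ x hx, hQ y hy, hk', hk', Pi.single_eq_same, Pi.single_eq_same,
      mul_one] at this
    have hk0 : k ≠ 0 := fun e0 => by simp [e0] at hk
    exact mul_left_cancel₀ hk0 (by rw [this, mul_one])

include ha0 ha1

theorem mem_grp {g : GL I27 F} (hg : g ∈ E6univ F) : g ∈ grp F := by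
  obtain ⟨h, hh, hF⟩ := steps_fix ha0 ha1 steps [] steps_ok g (inv_of_mem hg)
    (fun j hj => by simp at hj)
  choose μ hμ0 hμ using fun j : I27 => hF j (mem_allI j)
  have hd : ((h * g : GL I27 F) : Matrix I27 I27 F) = Matrix.diagonal μ :=
    Matrix.ext_of_mulVec_single fun j => by rw [hμ j, Matrix.diagonal_mulVec_single, mul_one]
  obtain ⟨h', hh', ν, hν, hν1⟩ := tor_fix torusD [] tors_ok (fun _ hq => hq) (h * g) μ hμ0 hd
    (fun b hb => by simp at hb)
  have h1 := der_one (inv_mul hh' (inv_mul hh (inv_of_mem hg))) hν derive _ der_ok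
    (fun b hb => hν1 b (by simpa using hb))
  have he : h' * (h * g) = 1 := Units.ext (by
    rw [hν, Units.val_one, ← Matrix.diagonal_one]
    exact congrArg Matrix.diagonal (funext h1))
  have : g = h⁻¹ * h'⁻¹ := by
    rw [eq_inv_mul_iff_mul_eq]
    exact eq_inv_of_mul_eq_one_right he
  rw [this]
  exact mul_mem (inv_mem hh) (inv_mem hh')

theorem grp_eq : grp F = E6univ F :=
  le_antisymm grp_le fun _ hg => mem_grp ha0 ha1 hg

end CfsgLib.ChevE6Cubic
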