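import Mathlib
import Cfsg.Agent.ChevOrth.Iso
import Cfsg.Agent.ChevE6Cubic.Reduce

/-!
The isometry group of the cubic form modulo its centre is the Chevalley group of type E₆.
-/

set_option autoImplicit false

namespace CfsgLib.ChevE6Cubic

open Cfsg.Lie CfsgLib.Chevalley CfsgLib.ChevSteinberg CfsgLib.ChevOrth
open scoped Matrix

variable {F : Type*} [Field F]

theorem noncomm_pair : ∃ r : Fin 72, ∃ k : Fin 72, ∃ s : Fin 72,
    (s : ℕ) ≠ r ∧ (s : ℕ) ≠ chevE6.neg r ∧ chevE6.commTerms r s = [((k : ℕ), 1, 1, 1)] ∧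
      (k : ℕ) = 0 := by
  decide +kernel

theorem root_zero_ne_one {t : F} (ht : t ≠ 0) : (checked F).gl 0 t ≠ 1 := by
  obtain ⟨e, d, x, hx⟩ : ∃ e d : I27, ∃ x : ℤ, (entX 0).head? = some (e, d, x) :=
    ⟨_, _, _, rfl⟩
  have harrow : arrowB 0 e d = true := by
    have : ∀ q ∈ (entX 0).head?, arrowB 0 q.1 q.2.1 = true ∧ q.1 ≠ q.2.1 := by decide +kernel
    exact (this _ hx).1
  have hne : e ≠ d := by
    have : ∀ q ∈ (entX 0).head?, q.1 ≠ q.2.1 := by decide +kernel
    exact this _ hx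
  obtain ⟨y, hy, hye⟩ := gl_arrow (F := F) harrow
  intro h
  have := hye t (Pi.single d 1)
  rw [h, Units.val_one, Matrix.one_mulVec, Pi.single_eq_same, Pi.single_eq_of_ne hne, zero_add,
    mul_one] at this
  rcases mul_eq_zero.1 this.symm with h | h
  · exact ht h
  · simp [h] at hy

theorem equiv (S : Sys chevE6) (W : Witness S) (hs : IsSimpleGroup ↥(chevE6.group F))
    {a : F} (ha0 : a ≠ 0) (ha1 : a ≠ 1) : Nonempty (E6 F ≃* ↥(chevE6.group F)) := by
  have hrange : (checked F).coverHom.range = E6univ F := grp_eq ha0 ha1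
  let χ : chevE6.SteinbergCover F →* ↥(E6univ F) :=
    (checked F).coverHom.codRestrict (E6univ F) (fun x => hrange ▸ ⟨x, rfl⟩)
  obtain ⟨r, k, s, h1, h2, hc, hk⟩ := noncomm_pair
  have hmem : ∀ r t, (checked F).gl r t ∈ E6univ F := fun r t => hrange ▸ gl_mem F r t
  obtain ⟨e⟩ := iso_of_cover S W hs χ (fun g => by
      obtain ⟨x, hx⟩ : (g : GL I27 F) ∈ (checked F).coverHom.range := by rw [hrange]; exact g.2
      exact ⟨x, Subtype.ext hx⟩)
    (a := ⟨(checked F).gl r 1, hmem r 1⟩) (b := ⟨(checked F).gl s 1, hmem s 1⟩) (by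
      intro h
      have h' := congrArg (fun z : ↥(E6univ F) => ((z : GL I27 F) : Matrix I27 I27 F)) h
      simp only [Subgroup.coe_mul, Units.val_mul, Checked.gl_val] at h'
      rw [(checked F).comm r r.2 s s.2 h1 h2] at h'
      simp only [ChevalleyDatum.commWord, hc, hk, List.map_cons, List.map_nil, List.prod_cons,
        List.prod_nil, mul_one, pow_one, Int.cast_one, one_mul] at h'
      refine root_zero_ne_one (F := F) (t := -1) (neg_ne_zero.2 one_ne_zero) ?_
      refine mul_left_cancel (a := (checked F).gl r 1 * (checked F).gl s 1) ?_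
      rw [mul_one]
      apply Units.ext
      simp only [Units.val_mul, Checked.gl_val]
      exact h'.symm)
  exact ⟨e.symm⟩

end CfsgLib.ChevE6Cubic
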